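import Groth.Agent.RGammaD.Complete
import Groth.Agent.H9Misc.DRingCechCompl

/-! Derived completion of `RHom(K, ω)` is `RHom(RΓ_I K, ω) = RHom(RΓ_I K, RΓ_I ω)`. -/

set_option autoImplicit false
set_option linter.style.haveILetI false

universe u

open CategoryTheory CategoryTheory.Limits CategoryTheory.Pretriangulated
open scoped MonoidalCategory

attribute [local instance] HasDerivedCategory.standard

namespace Groth.Agent.RGammaD

open Groth.Agent.H9Misc Groth.Agent.H9Misc.DRingHomCx Groth.Agent.H9Misc.DRingCompl Groth.Agent.H9Misc.DRingRHomCompl Groth.Agent.KFlatLib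
open Groth.Agent.H9Misc.DRingLTensor

variable {A : Type u} [CommRing A]

lemma TorsD.shift {I : Ideal A} {T : Dual.D A} (h : TorsD I T) (n : ℤ) : TorsD I (T⟦n⟧) := fun i =>
  isPowerTorsion_of_iso I (h (n + i))
    (((DerivedCategory.homologyFunctor (ModuleCat.{u} A) 0).shiftIso n i (n + i) rfl).app T).symm

/-- `RHom` out of a torsion complex is derived complete. -/
lemma isDerivedComplete_homCx {I : Ideal A} (T : DRing.Cx A) (hT : TorsD I (DerivedCategory.Q.obj T))
    (W : DRing.Cx A) [W.IsKInjective] : DRing.IsDerivedComplete I (DerivedCategory.Q.obj (DRing.homCx T W)) := by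
  intro f hf n
  let P := (ringCover A).P.obj T
  haveI := (ringCover A).quasiIso_ψ T
  let β : P ⟶ T := (ringCover A).ψ.app T
  have hP : IsKF P := kFlat_ringRes T
  haveI := quasiIso_homCxPre_of_isKInjective β W
  haveI := isKInjective_homCx (I := W) hP
  let S := (DRingHomCx.single₀ A).obj (ModuleCat.of A (Localization.Away f))
  let eS : Dual.inD A (Localization.Away f) ≅ DerivedCategory.Q.obj S :=
    (DerivedCategory.singleFunctorIsoCompQ (ModuleCat.{u} A) 0).app _
  let eR : DerivedCategory.Q.obj (DRing.homCx T W) ≅ DerivedCategory.Q.obj (DRing.homCx P W) :=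
    asIso (DerivedCategory.Q.map (homCxPre β W))
  haveI : Subsingleton (DerivedCategory.Q.obj S ⟶ (DerivedCategory.Q.obj (DRing.homCx P W))⟦n⟧) := by
    refine (subsingleton_shift_iff_kInjective _ _ n).2 ?_
    refine HomologicalComplex.ExactAt.of_iso ?_ (DRingHomTensor.homTensorIso S P W).symm
    refine exactAt_homCx_of_isKInjective (DRingCechCompl.acyclic_tensor_away P fun q => ?_) n
    exact TorsD.tors I (TorsD.of_iso I hT (asIso (DerivedCategory.Q.map β)).symm) hf q
  exact (Iso.homCongr eS ((CategoryTheory.shiftFunctor (Dual.D A) n).mapIso eR)).subsingleton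

/-- Restricting `Hom•(-, W)` along `Γ_a J → J` is a completion. -/
lemma exists_bij_of_span [IsNoetherianRing A] (J : DRing.Cx A) (hJ : ∀ n, Injective (J.X n))
    (W : DRing.Cx A) [W.IsKInjective] :
    ∀ (s : Finset A) (a : Ideal A), Ideal.span (s : Set A) = a →
      ∃ η : DerivedCategory.Q.obj (DRing.homCx J W) ⟶
          DerivedCategory.Q.obj (DRing.homCx ((gam a).obj J) W),
        ∀ Z, (∀ f ∈ s, Cg f Z) → Function.Bijective (fun φ => η ≫ φ : _ → (DerivedCategory.Q.obj (DRing.homCx J W) ⟶ Z)) := by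
  classical
  intro s
  induction s using Finset.induction_on with
  | empty =>
    intro a ha
    rw [Finset.coe_empty, Ideal.span_empty] at ha
    subst ha
    haveI : ∀ n, IsIso ((incl (⊥ : Ideal A) J).f n) := fun n =>
      (ConcreteCategory.isIso_iff_bijective _).2 ⟨Subtype.val_injective, fun x => ⟨⟨x, 1, fun c hc => by
        rw [pow_one, Ideal.mem_bot] at hc
        rw [hc, zero_smul]⟩, rfl⟩⟩
    haveI := HomologicalComplex.Hom.isIso_of_components (incl (⊥ : Ideal A) J)
    haveI := quasiIso_homCxPre_of_isKInjective (incl (⊥ : Ideal A) J) W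
    exact ⟨DerivedCategory.Q.map (homCxPre (incl (⊥ : Ideal A) J) W), fun Z _ =>
      (asIso (DerivedCategory.Q.map (homCxPre (incl (⊥ : Ideal A) J) W))).symm.homFromEquiv.bijective⟩
  | insert f s hfs ih =>
    intro a ha
    have ha' : Ideal.span (s : Set A) ⊔ Ideal.span {f} = a := by
      rw [← ha, Finset.coe_insert, Ideal.span_insert, sup_comm]
    subst ha'
    obtain ⟨η, hη⟩ := ih _ rfl
    let b := Ideal.span (s : Set A)
    let S := stepSeq b f J
    have hSE : S.ShortExact := stepSeq_shortExact b f J hJ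
    have σ : ∀ n, (S.map (HomologicalComplex.eval _ _ n)).Splitting := fun n => by
      haveI : Injective ((S.map (HomologicalComplex.eval _ _ n)).X₁) := by
        haveI := hJ n
        haveI := injective_gam (b ⊔ Ideal.span {f}) (J.X n)
        exact Module.injective_object_of_injective_module (R := A) (M := DRing.torsionSub (b ⊔ Ideal.span {f}) (J.X n))
      exact (hSE.map_of_exact (HomologicalComplex.eval _ _ n)).splittingOfInjective
    have hT := rot_of_distTriang _ (DerivedCategory.triangleOfSES_distinguished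
      (DRingCechCompl.shortExact_homCxPre S σ W))
    have hW : RlimSmul.Loc f (DerivedCategory.Q.obj (DRing.homCx S.X₃ W)) := by
      haveI : IsIso (f • 𝟙 S.X₃) := KonLib.isIso_smul_locCx f ((gam b).obj J)
      haveI := quasiIso_homCxPre_of_isKInjective (f • 𝟙 S.X₃) W
      show IsIso (f • 𝟙 (DerivedCategory.Q.obj (DRing.homCx S.X₃ W)))
      rw [← CategoryTheory.Functor.map_id, ← Functor.map_smul, ← DRingCechCompl.homCxPre_smul_id]
      infer_instance
    refine ⟨η ≫ DerivedCategory.Q.map (homCxPre S.f W), fun Z hZ => ?_⟩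
    have h1 := bijective_of_loc hT (hW.shift f 1) (hZ f (Finset.mem_insert_self f s))
    have h2 := hη Z fun g hg => hZ g (Finset.mem_insert_of_mem hg)
    exact Eq.mp (congrArg Function.Bijective (funext fun φ => (Category.assoc _ _ _).symm)) (h2.comp h1)

/-- The completion of `Hom•(J, W)` is `Hom•(Γ_I J, W)`. -/
theorem nonempty_completion_homCx [IsNoetherianRing A] (I : Ideal A) [DRing.HasDerivedCompletion I]
    (J : DRing.Cx A) (hJ : ∀ n, Injective (J.X n)) (W : DRing.Cx A) [W.IsKInjective] :
    Nonempty (((DRing.derivedCompletion I).obj (DerivedCategory.Q.obj (DRing.homCx J W))).obj ≅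
      DerivedCategory.Q.obj (DRing.homCx ((gam I).obj J) W)) := by
  obtain ⟨s, hs⟩ := IsNoetherian.noetherian I
  obtain ⟨η, hη⟩ := exists_bij_of_span J hJ W s I hs
  have h : Refl (DRing.IsDerivedComplete I) η :=
    ⟨isDerivedComplete_homCx _ (torsD_gam I J) W, fun Z hZ n => hη _ fun f hf =>
      DRingCompl.isDerivedComplete_shift hZ n f (hs ▸ Ideal.subset_span hf)⟩
  exact (refl_unit (I := I) _).exists_iso h

/-- `RHom(T, -)` inverts maps that torsion objects do not see. -/
theorem nonempty_iso_rhom {I : Ideal A} (T : DRing.Cx A) [DRing.HasRHomCx T]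
    (hT : TorsD I (DerivedCategory.Q.obj T)) {X Y : Dual.D A} (η : X ⟶ Y)
    (hη : ∀ T', TorsD I T' → Function.Bijective (fun φ : T' ⟶ X => φ ≫ η)) :
    Nonempty ((DRing.RHomCx T).obj X ≅ (DRing.RHomCx T).obj Y) := by
  obtain ⟨S, σ, eX, eY, h₁, h₂, hc⟩ := exists_model η
  haveI := h₁
  haveI := h₂
  haveI := isKInjective_of_ses S σ
  have hSE : S.ShortExact := HomologicalComplex.shortExact_of_degreewise_shortExact _
    fun n => (σ n).shortExact
  have hTd := DerivedCategory.triangleOfSES_distinguished hSE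
  have hf : ∀ T', TorsD I T' → Function.Bijective
      (fun φ : T' ⟶ DerivedCategory.Q.obj S.X₁ => φ ≫ DerivedCategory.Q.map S.f) := fun T' hT' => by
    refine Eq.mp (congrArg Function.Bijective (funext fun φ => ?_))
      (eY.homToEquiv.bijective.comp ((hη T' hT').comp eX.symm.homToEquiv.bijective))
    change ((φ ≫ eX.inv) ≫ η) ≫ eY.hom = φ ≫ DerivedCategory.Q.map S.f
    rw [Category.assoc, Category.assoc, hc, eX.inv_hom_id_assoc]
  have h0 : ∀ T', TorsD I T' → ∀ x : T' ⟶ DerivedCategory.Q.obj S.X₃, x = 0 := by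
    intro T' hT' x
    let δ := DerivedCategory.triangleOfSESδ hSE
    let e := (shiftFunctorCompIsoId (Dual.D A) (-1) 1 (by omega)).app T'
    obtain ⟨w, hw⟩ := (shiftFunctor (Dual.D A) (1 : ℤ)).map_surjective (e.hom ≫ x ≫ δ)
    have hw0 : w ≫ DerivedCategory.Q.map S.f = 0 := by
      refine (shiftFunctor (Dual.D A) (1 : ℤ)).map_injective ?_
      rw [Functor.map_comp, hw, Functor.map_zero, Category.assoc, Category.assoc]
      refine (congrArg (fun k => e.hom ≫ x ≫ k) (comp_distTriang_mor_zero₃₁ _ hTd)).trans ?_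
      exact (congrArg (e.hom ≫ ·) (comp_zero (f := x))).trans comp_zero
    have hw1 : w = 0 := (hf _ (TorsD.shift hT' (-1))).1 (hw0.trans zero_comp.symm)
    have hx : x ≫ δ = 0 := by
      rw [← cancel_epi e.hom, ← hw, hw1, Functor.map_zero, comp_zero]
    obtain ⟨y, hy⟩ := Triangle.coyoneda_exact₃ _ hTd x hx
    obtain ⟨z, hz⟩ := (hf T' hT').2 y
    refine hy.trans ((congrArg (· ≫ _) hz.symm).trans ?_)
    exact (Category.assoc _ _ _).trans ((congrArg (z ≫ ·) (comp_distTriang_mor_zero₁₂ _ hTd)).trans comp_zero)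
  have hac : (DRing.homCx T S.X₃).Acyclic := fun n => by
    refine (subsingleton_shift_iff_kInjective T S.X₃ n).1 (subsingleton_of_forall_eq 0 fun x => ?_)
    let e := (shiftFunctorCompIsoId (Dual.D A) (-n) n (by omega)).app (DerivedCategory.Q.obj T)
    obtain ⟨w, hw⟩ := (shiftFunctor (Dual.D A) n).map_surjective (e.hom ≫ x)
    rw [← cancel_epi e.hom, ← hw, h0 _ (TorsD.shift hT (-n)) w, Functor.map_zero, comp_zero]
  have hH := shortExact_homCx T S σ
  haveI : IsIso (DerivedCategory.Q.map (DRing.homCxMap T S.f)) := by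
    refine (Triangle.isZero₃_iff_isIso₁ _ (DerivedCategory.triangleOfSES_distinguished hH)).1 ?_
    exact isZero_Q _ fun q => (HomologicalComplex.exactAt_iff_isZero_homology _ _).1 (hac q)
  exact ⟨(DRing.RHomCx T).mapIso eX ≪≫ (isoOfKInjective T S.X₁).symm ≪≫
    asIso (DerivedCategory.Q.map (DRing.homCxMap T S.f)) ≪≫ isoOfKInjective T S.X₂ ≪≫
      (DRing.RHomCx T).mapIso eY.symm⟩

end Groth.Agent.RGammaD
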