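import Groth.Agent.RGammaD.Basic
import Groth.Agent.LC.CohBasic
import Groth.Agent.LC.CohDerived
import Groth.Agent.PerfGen7.LocalDualityRows
import Groth.Prelude.Def_DualLC

/-! The cohomology of `RΓ_I` as a direct limit of `Hom(A/I^n, K[q])`. -/

set_option autoImplicit false
set_option linter.style.haveILetI false
set_option backward.isDefEq.respectTransparency false

universe u

open CategoryTheory CategoryTheory.Limits Opposite CochainComplex CochainComplex.HomComplex

attribute [local instance] HasDerivedCategory.standard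

namespace Groth.Agent.RGammaD

open Groth.Agent.H9Misc Groth.Agent.H9Misc.ExtCechTors Groth.Agent.LC

variable {A : Type u} [CommRing A] (I : Ideal A) (L : DRing.Cx A)

/-- The chain map `A/I^n → L` given by a cycle killed by `I^n`. -/
noncomputable def singleMap {n : ℕ} (f : qObj I n ⟶ L.X 0) (hf : f ≫ L.d 0 1 = 0) :
    (CochainComplex.singleFunctor (ModuleCat.{u} A) 0).obj (qObj I n) ⟶ L :=
  HomologicalComplex.mkHomFromSingle f fun k (hk : 0 + 1 = k) => by
    obtain rfl : k = 1 := by omega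
    exact hf

lemma singleMap_f {n : ℕ} (f : qObj I n ⟶ L.X 0) (hf : f ≫ L.d 0 1 = 0) :
    (singleMap I L f hf).f 0 = (HomologicalComplex.singleObjXSelf (ComplexShape.up ℤ) 0 _).hom ≫ f :=
  HomologicalComplex.mkHomFromSingle_f f _

/-- A morphism out of `A/I^n` placed in degree `0`. -/
noncomputable def levelHom {n : ℕ} (f : qObj I n ⟶ L.X 0) (hf : f ≫ L.d 0 1 = 0) :
    (DerivedCategory.singleFunctor (ModuleCat.{u} A) 0).obj (qObj I n) ⟶ DerivedCategory.Q.obj L :=
  ((DerivedCategory.singleFunctorIsoCompQ (ModuleCat.{u} A) 0).app (qObj I n)).hom ≫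
    DerivedCategory.Q.map (singleMap I L f hf)

lemma levelHom_add {n : ℕ} (f g : qObj I n ⟶ L.X 0) (hf : f ≫ L.d 0 1 = 0) (hg : g ≫ L.d 0 1 = 0)
    (h : (f + g) ≫ L.d 0 1 = 0) :
    levelHom I L (f + g) h = levelHom I L f hf + levelHom I L g hg := by
  have : singleMap I L (f + g) h = singleMap I L f hf + singleMap I L g hg :=
    HomologicalComplex.from_single_hom_ext (by simp [singleMap_f])
  unfold levelHom
  rw [this, Functor.map_add, Preadditive.comp_add]

lemma levelHom_smul {n : ℕ} (a : A) (f : qObj I n ⟶ L.X 0) (hf : f ≫ L.d 0 1 = 0)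
    (h : (a • f) ≫ L.d 0 1 = 0) : levelHom I L (a • f) h = a • levelHom I L f hf := by
  have : singleMap I L (a • f) h = a • singleMap I L f hf :=
    HomologicalComplex.from_single_hom_ext (by simp [singleMap_f])
  unfold levelHom
  rw [this, Functor.map_smul, Linear.comp_smul]

lemma levelHom_res {n m : ℕ} (hnm : n ≤ m) (f : qObj I n ⟶ L.X 0) (hf : f ≫ L.d 0 1 = 0)
    (h : (qMap I hnm ≫ f) ≫ L.d 0 1 = 0) :
    (DerivedCategory.singleFunctor (ModuleCat.{u} A) 0).map (qMap I hnm) ≫ levelHom I L f hf =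
      levelHom I L (qMap I hnm ≫ f) h := by
  have : (HomologicalComplex.single (ModuleCat.{u} A) (ComplexShape.up ℤ) 0).map (qMap I hnm) ≫
      singleMap I L f hf = singleMap I L (qMap I hnm ≫ f) h :=
    HomologicalComplex.from_single_hom_ext (by simp [singleMap_f, HomologicalComplex.single_map_f_self])
  unfold levelHom
  rw [← this, Functor.map_comp, ← Category.assoc, ← Category.assoc]
  exact congrArg (· ≫ _) ((DerivedCategory.singleFunctorIsoCompQ (ModuleCat.{u} A) 0).hom.naturality (qMap I hnm))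

lemma levelHom_surjective [L.IsKInjective] {n : ℕ}
    (φ : (DerivedCategory.singleFunctor (ModuleCat.{u} A) 0).obj (qObj I n) ⟶ DerivedCategory.Q.obj L) :
    ∃ (f : qObj I n ⟶ L.X 0) (hf : f ≫ L.d 0 1 = 0), levelHom I L f hf = φ := by
  let e := (DerivedCategory.singleFunctorIsoCompQ (ModuleCat.{u} A) 0).app (qObj I n)
  obtain ⟨g, hg⟩ := BddInjective.lift_to_injective (L := L) (e.inv ≫ φ)
  have hd : ((HomologicalComplex.singleObjXSelf (ComplexShape.up ℤ) 0 (qObj I n)).inv ≫ g.f 0) ≫ L.d 0 1 = 0 := by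
    rw [Category.assoc, g.comm 0 1,
      (HomologicalComplex.isZero_single_obj_X (ComplexShape.up ℤ) 0 (qObj I n) 1 one_ne_zero).eq_of_tgt
        (((CochainComplex.singleFunctor (ModuleCat.{u} A) 0).obj (qObj I n)).d 0 1) 0, zero_comp, comp_zero]
  refine ⟨_, hd, ?_⟩
  have : singleMap I L _ hd = g := HomologicalComplex.from_single_hom_ext (by simp [singleMap_f])
  unfold levelHom
  rw [this]
  refine (congrArg (e.hom ≫ ·) hg).trans ?_
  exact e.hom_inv_id_assoc φ

lemma levelHom_eq_zero_iff [L.IsKInjective] {n : ℕ} (f : qObj I n ⟶ L.X 0) (hf : f ≫ L.d 0 1 = 0) :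
    levelHom I L f hf = 0 ↔ ∃ h : qObj I n ⟶ L.X (-1), h ≫ L.d (-1) 0 = f := by
  let e := DerivedCategory.quotientCompQhIso (ModuleCat.{u} A)
  let S := (CochainComplex.singleFunctor (ModuleCat.{u} A) 0).obj (qObj I n)
  constructor
  · intro h0
    have h1 : DerivedCategory.Q.map (singleMap I L f hf) = 0 :=
      (cancel_epi ((DerivedCategory.singleFunctorIsoCompQ (ModuleCat.{u} A) 0).app (qObj I n)).hom).1
        (h0.trans comp_zero.symm)
    have h2 : (HomotopyCategory.quotient _ (ComplexShape.up ℤ)).map (singleMap I L f hf) = 0 := by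
      refine (CochainComplex.IsKInjective.Qh_map_bijective
        ((HomotopyCategory.quotient _ _).obj S) L).1 ?_
      refine Eq.trans ?_ (DerivedCategory.Qh.map_zero _ _).symm
      refine (cancel_mono (e.hom.app L)).1 ?_
      exact (e.hom.naturality (singleMap I L f hf)).trans ((congrArg _ h1).trans (comp_zero.trans zero_comp.symm))
    let H := HomotopyCategory.homotopyOfEq _ _
      (h2.trans ((HomotopyCategory.quotient _ (ComplexShape.up ℤ)).map_zero S L).symm)
    refine ⟨(HomologicalComplex.singleObjXSelf (ComplexShape.up ℤ) 0 (qObj I n)).inv ≫ H.hom 0 (-1), ?_⟩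
    have hc := H.comm 0
    rw [dNext_eq _ (show (ComplexShape.up ℤ).Rel 0 1 from rfl),
      prevD_eq _ (show (ComplexShape.up ℤ).Rel (-1) 0 from by simp), singleMap_f] at hc
    rw [(HomologicalComplex.isZero_single_obj_X (ComplexShape.up ℤ) 0 (qObj I n) 1 one_ne_zero).eq_of_tgt
        (((CochainComplex.singleFunctor (ModuleCat.{u} A) 0).obj (qObj I n)).d 0 1) 0,
      zero_comp, zero_add, HomologicalComplex.zero_f, add_zero] at hc
    rw [Category.assoc, ← hc, Iso.inv_hom_id_assoc]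
  · rintro ⟨h, hh⟩
    have h1 : DerivedCategory.Q.map (singleMap I L f hf) = 0 := by
      have hz : Cochain.ofHom (singleMap I L f hf) =
          δ (-1) 0 (Cochain.fromSingleMk (K := L) h (show (0 : ℤ) + -1 = -1 by omega)) +
            Cochain.ofHom (0 : S ⟶ L) := by
        rw [Cochain.δ_fromSingleMk h _ 0 0 (by omega), Cochain.ofHom_zero, add_zero, hh]
        apply Cochain.ext
        intro p q hpq
        obtain rfl : p = q := by omega
        rw [Cochain.ofHom_v]
        by_cases hp : p = 0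
        · subst hp
          rw [Cochain.fromSingleMk_v]
          exact singleMap_f I L f hf
        · exact (HomologicalComplex.isZero_single_obj_X _ 0 _ p hp).eq_of_src _ _
      rw [DerivedCategory.Q_map_eq_of_homotopy _ ((Cochain.equivHomotopy _ _).symm ⟨_, hz⟩), Functor.map_zero]
    unfold levelHom
    rw [h1, comp_zero]

variable {I L} in
lemma homOfElt_d {n : ℕ} (x : L.X 0) (hx : ∀ a ∈ I ^ n, a • x = 0) (hd : L.d 0 1 x = 0) :
    homOfElt I n x hx ≫ L.d 0 1 = 0 :=
  qObj_hom_ext I ((congrArg (L.d 0 1).hom (homOfElt_one I n x hx)).trans hd)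

/-- The diagram defining `Dual2.HDI`. -/
noncomputable abbrev diag (K : Dual.D A) (q : ℤ) : ℕᵒᵖᵒᵖ ⥤ ModuleCat.{u + 1} A :=
  (localCohomology.ringModIdeals (localCohomology.idealPowersDiagram I) ⋙
      DerivedCategory.singleFunctor (ModuleCat.{u} A) 0).op ⋙ (linearYoneda A (Dual.D A)).obj (K⟦q⟧)

variable {K : Dual.D A} {q : ℤ} (e : K⟦q⟧ ≅ DerivedCategory.Q.obj L)

/-- The structure map of the direct limit. -/
noncomputable def ιLin (K : Dual.D A) (q : ℤ) (n : ℕ) :
    ((DerivedCategory.singleFunctor (ModuleCat.{u} A) 0).obj (qObj I n) ⟶ K⟦q⟧) →ₗ[A]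
      (Dual2.HDI A I K q : Type (u + 1)) :=
  (colimit.ι (diag I K q) (op (op n))).hom

lemma ringMod_map {n m : ℕ} (h : n ≤ m) :
    (localCohomology.ringModIdeals (localCohomology.idealPowersDiagram I)).map (LC.arr h).unop =
      qMap I h := by
  ext x
  rfl

lemma ιLin_res {n m : ℕ} (h : n ≤ m)
    (φ : (DerivedCategory.singleFunctor (ModuleCat.{u} A) 0).obj (qObj I n) ⟶ K⟦q⟧) :
    ιLin I K q m ((DerivedCategory.singleFunctor (ModuleCat.{u} A) 0).map (qMap I h) ≫ φ) = ιLin I K q n φ := by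
  have hw := ConcreteCategory.congr_hom (colimit.w (diag I K q) (LC.arr h)) φ
  have h1 := congrArg (fun t => (DerivedCategory.singleFunctor (ModuleCat.{u} A) 0).map t ≫ φ) (ringMod_map I h)
  refine Eq.trans ?_ hw
  exact congrArg (colimit.ι (diag I K q) (op (op m))).hom h1.symm

lemma ιLin_surjective (w : (Dual2.HDI A I K q : Type (u + 1))) :
    ∃ (n : ℕ) (φ : (DerivedCategory.singleFunctor (ModuleCat.{u} A) 0).obj (qObj I n) ⟶ K⟦q⟧),
      ιLin I K q n φ = w := by
  obtain ⟨j, φ, hφ⟩ := Concrete.colimit_exists_rep (diag I K q) w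
  exact ⟨j.unop.unop, φ, hφ⟩

lemma exists_res_eq_zero {n : ℕ}
    (φ : (DerivedCategory.singleFunctor (ModuleCat.{u} A) 0).obj (qObj I n) ⟶ K⟦q⟧)
    (h : ιLin I K q n φ = 0) :
    ∃ (m : ℕ) (hm : n ≤ m), (DerivedCategory.singleFunctor (ModuleCat.{u} A) 0).map (qMap I hm) ≫ φ = 0 := by
  let F := diag I K q
  obtain ⟨j, g₁, g₂, hg⟩ := Concrete.colimit_exists_of_rep_eq F (i := op (op n)) (j := op (op n)) φ 0
    (h.trans (map_zero (colimit.ι F (op (op n))).hom).symm)
  obtain ⟨⟨m⟩⟩ := j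
  have hle : n ≤ m := g₁.unop.unop.down.down
  obtain rfl : g₁ = LC.arr hle := Subsingleton.elim _ _
  have h1 := congrArg (fun t => (DerivedCategory.singleFunctor (ModuleCat.{u} A) 0).map t ≫ φ) (ringMod_map I hle)
  exact ⟨m, hle, h1.symm.trans (hg.trans (map_zero (F.map g₂).hom))⟩

/-- The class in the direct limit of a map `A/I^n → L`. -/
noncomputable def cls {n : ℕ} (f : qObj I n ⟶ L.X 0) (hf : f ≫ L.d 0 1 = 0) :
    (Dual2.HDI A I K q : Type (u + 1)) :=
  ιLin I K q n (levelHom I L f hf ≫ e.inv)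

lemma cls_congr {n : ℕ} {f g : qObj I n ⟶ L.X 0} (hf : f ≫ L.d 0 1 = 0) (hg : g ≫ L.d 0 1 = 0) (h : f = g) :
    cls I L e f hf = cls I L e g hg := by subst h; rfl

lemma cls_res {n m : ℕ} (h : n ≤ m) (f : qObj I n ⟶ L.X 0) (hf : f ≫ L.d 0 1 = 0)
    (hd : (qMap I h ≫ f) ≫ L.d 0 1 = 0) : cls I L e (qMap I h ≫ f) hd = cls I L e f hf := by
  unfold cls
  rw [← levelHom_res I L h f hf hd, Category.assoc, ιLin_res]

lemma cls_add {n : ℕ} (f g : qObj I n ⟶ L.X 0) (hf : f ≫ L.d 0 1 = 0) (hg : g ≫ L.d 0 1 = 0)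
    (h : (f + g) ≫ L.d 0 1 = 0) : cls I L e (f + g) h = cls I L e f hf + cls I L e g hg := by
  unfold cls
  rw [levelHom_add I L f g hf hg h, Preadditive.add_comp, map_add]

lemma cls_smul {n : ℕ} (a : A) (f : qObj I n ⟶ L.X 0) (hf : f ≫ L.d 0 1 = 0)
    (h : (a • f) ≫ L.d 0 1 = 0) : cls I L e (a • f) h = a • cls I L e f hf := by
  unfold cls
  rw [levelHom_smul I L a f hf h, Linear.smul_comp, map_smul]

lemma exists_cls [L.IsKInjective] (w : (Dual2.HDI A I K q : Type (u + 1))) :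
    ∃ (n : ℕ) (f : qObj I n ⟶ L.X 0) (hf : f ≫ L.d 0 1 = 0), cls I L e f hf = w := by
  obtain ⟨n, φ, hφ⟩ := ιLin_surjective I w
  obtain ⟨f, hf, hfe⟩ := levelHom_surjective I L (φ ≫ e.hom)
  refine ⟨n, f, hf, ?_⟩
  unfold cls
  rw [hfe, Category.assoc, e.hom_inv_id, Category.comp_id, hφ]

lemma cls_eq_zero_iff [L.IsKInjective] {n : ℕ} (f : qObj I n ⟶ L.X 0) (hf : f ≫ L.d 0 1 = 0) :
    cls I L e f hf = 0 ↔
      ∃ (m : ℕ) (h : n ≤ m) (g : qObj I m ⟶ L.X (-1)), g ≫ L.d (-1) 0 = qMap I h ≫ f := by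
  constructor
  · intro h0
    obtain ⟨m, hle, h2⟩ := exists_res_eq_zero I _ h0
    have hd : (qMap I hle ≫ f) ≫ L.d 0 1 = 0 := by rw [Category.assoc, hf, comp_zero]
    rw [← Category.assoc, levelHom_res I L hle f hf hd] at h2
    obtain ⟨g, hg'⟩ := (levelHom_eq_zero_iff I L _ _).1 ((cancel_mono e.inv).1 (h2.trans zero_comp.symm))
    exact ⟨m, hle, g, hg'⟩
  · rintro ⟨m, h, g, hg⟩
    have hd : (qMap I h ≫ f) ≫ L.d 0 1 = 0 := by rw [Category.assoc, hf, comp_zero]
    rw [← cls_res I L e h f hf hd]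
    have h0 : levelHom I L _ hd = 0 := (levelHom_eq_zero_iff I L _ _).2 ⟨g, hg⟩
    unfold cls
    rw [h0, zero_comp, map_zero]

theorem nonempty_homology_gam [L.IsKInjective] (K : Dual.D A) (q : ℤ) (e : K⟦q⟧ ≅ DerivedCategory.Q.obj L) :
    Nonempty (((gam I).obj L).homology 0 ≃ₗ[A] Dual2.HDI A I K q) := by
  let G := (gam I).obj L
  have key : ∀ z : G.cycles 0, L.d 0 1 (G.iCycles 0 z).1 = 0 := fun z => by
    have : G.d 0 1 (G.iCycles 0 z) = 0 := by
      rw [← ConcreteCategory.comp_apply, G.iCycles_d]; rfl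
    exact congrArg Subtype.val this
  let wit : G.cycles 0 → ℕ := fun z => (G.iCycles 0 z).2.choose
  have hwit : ∀ z : G.cycles 0, ∀ a ∈ I ^ wit z, a • ((G.iCycles 0 z).1 : L.X 0) = 0 :=
    fun z => (G.iCycles 0 z).2.choose_spec
  have hres : ∀ (x : L.X 0) (hd : L.d 0 1 x = 0) {n m : ℕ} (h : n ≤ m) (hn : ∀ a ∈ I ^ n, a • x = 0)
      (hm : ∀ a ∈ I ^ m, a • x = 0),
      cls I L e _ (homOfElt_d x hm hd) = cls I L e _ (homOfElt_d x hn hd) := by
    intro x hd n m h hn hm
    have hc : homOfElt I m x hm = qMap I h ≫ homOfElt I n x hn :=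
      qObj_hom_ext I ((homOfElt_one I m x hm).trans
        ((congrArg (homOfElt I n x hn).hom (qMap_mk I h 1)).trans (homOfElt_one I n x hn)).symm)
    have hd' : (qMap I h ≫ homOfElt I n x hn) ≫ L.d 0 1 = 0 := hc ▸ homOfElt_d x hm hd
    exact (cls_congr I L e _ hd' hc).trans (cls_res I L e h _ _ hd')
  let Φf : G.cycles 0 → (Dual2.HDI A I K q : Type (u + 1)) := fun z => cls I L e _ (homOfElt_d _ (hwit z) (key z))
  have hΦ : ∀ (z : G.cycles 0) (n : ℕ) (hn : ∀ a ∈ I ^ n, a • ((G.iCycles 0 z).1 : L.X 0) = 0),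
      Φf z = cls I L e _ (homOfElt_d _ hn (key z)) := fun z n hn => by
    have hm : ∀ a ∈ I ^ (max (wit z) n), a • ((G.iCycles 0 z).1 : L.X 0) = 0 := fun a ha =>
      hn a (Ideal.pow_le_pow_right (le_max_right _ _) ha)
    exact (hres _ (key z) (le_max_left _ _) (hwit z) hm).symm.trans (hres _ (key z) (le_max_right _ _) hn hm)
  let Φ : G.cycles 0 →ₗ[A] Dual2.HDI A I K q :=
    { toFun := Φf
      map_add' := fun z z' => by
        obtain ⟨n, h1, h2⟩ : ∃ n, (∀ a ∈ I ^ n, a • ((G.iCycles 0 z).1 : L.X 0) = 0) ∧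
            ∀ a ∈ I ^ n, a • ((G.iCycles 0 z').1 : L.X 0) = 0 :=
          ⟨max (wit z) (wit z'), fun a ha => hwit z a (Ideal.pow_le_pow_right (le_max_left _ _) ha),
            fun a ha => hwit z' a (Ideal.pow_le_pow_right (le_max_right _ _) ha)⟩
        have hs : ((G.iCycles 0 (z + z')).1 : L.X 0) = (G.iCycles 0 z).1 + (G.iCycles 0 z').1 :=
          congrArg Subtype.val (map_add (G.iCycles 0).hom z z')
        have h3 : ∀ a ∈ I ^ n, a • ((G.iCycles 0 (z + z')).1 : L.X 0) = 0 := fun a ha => by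
          rw [hs, smul_add, h1 a ha, h2 a ha, add_zero]
        have hc : homOfElt I n _ h3 = homOfElt I n _ h1 + homOfElt I n _ h2 :=
          qObj_hom_ext I ((homOfElt_one I n _ h3).trans (hs.trans
            (congrArg₂ (· + ·) (homOfElt_one I n _ h1) (homOfElt_one I n _ h2)).symm))
        have hd : (homOfElt I n _ h1 + homOfElt I n _ h2) ≫ L.d 0 1 = 0 := hc ▸ homOfElt_d _ h3 (key _)
        rw [hΦ _ n h3, hΦ _ n h1, hΦ _ n h2, ← cls_add I L e _ _ _ _ hd]
        exact cls_congr I L e _ hd hc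
      map_smul' := fun a z => by
        have hs : ((G.iCycles 0 (a • z)).1 : L.X 0) = a • (G.iCycles 0 z).1 :=
          congrArg Subtype.val (map_smul (G.iCycles 0).hom a z)
        have h3 : ∀ b ∈ I ^ wit z, b • ((G.iCycles 0 (a • z)).1 : L.X 0) = 0 := fun b hb => by
          rw [hs, smul_comm, hwit z b hb, smul_zero]
        have hc : homOfElt I _ _ h3 = a • homOfElt I _ _ (hwit z) :=
          qObj_hom_ext I ((homOfElt_one I _ _ h3).trans (hs.trans
            (congrArg (a • ·) (homOfElt_one I _ _ (hwit z))).symm))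
        have hd : (a • homOfElt I _ _ (hwit z)) ≫ L.d 0 1 = 0 := hc ▸ homOfElt_d _ h3 (key _)
        refine (hΦ _ _ h3).trans ((cls_congr I L e _ hd hc).trans ?_)
        exact cls_smul I L e a _ _ hd }
  have hsurj : Function.Surjective Φ := fun w => by
    obtain ⟨n, f, hf, hw⟩ := exists_cls I L e w
    let x : L.X 0 := f.hom (Ideal.Quotient.mk (I ^ n) 1)
    have hx : ∀ a ∈ I ^ n, a • x = 0 := fun a ha => killed I f a ha
    have hdx : L.d 0 1 x = 0 := ConcreteCategory.congr_hom hf _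
    obtain ⟨z, hz⟩ := exists_cycle_of_d_eq_zero G 0 (⟨x, n, hx⟩ : DRing.torsionSub I (L.X 0))
      (Subtype.ext hdx)
    have hz' : ((G.iCycles 0 z).1 : L.X 0) = x := congrArg Subtype.val hz
    have hn : ∀ a ∈ I ^ n, a • ((G.iCycles 0 z).1 : L.X 0) = 0 := fun a ha => by rw [hz']; exact hx a ha
    refine ⟨z, (hΦ z n hn).trans (Eq.trans ?_ hw)⟩
    exact cls_congr I L e _ _ (qObj_hom_ext I ((homOfElt_one I n _ hn).trans hz'))
  have hker : LinearMap.ker (G.homologyπ 0).hom = LinearMap.ker Φ := by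
    ext z
    simp only [LinearMap.mem_ker]
    constructor
    · intro hz
      obtain ⟨y, hy⟩ := exists_of_homologyπ_eq_zero G 0 z hz
      obtain ⟨n, hn⟩ := y.2
      have hyd : L.d (0 - 1) 0 y.1 = ((G.iCycles 0 z).1 : L.X 0) := congrArg Subtype.val hy
      have h1 : ∀ a ∈ I ^ n, a • ((G.iCycles 0 z).1 : L.X 0) = 0 := fun a ha => by
        rw [← hyd, ← map_smul, hn a ha, map_zero]
      refine (hΦ z n h1).trans ((cls_eq_zero_iff I L e _ _).2 ⟨n, le_rfl, homOfElt I n y.1 hn, qObj_hom_ext I ?_⟩)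
      refine ((congrArg (L.d (-1) 0).hom (homOfElt_one I n y.1 hn)).trans hyd).trans ?_
      exact ((congrArg (homOfElt I n _ h1).hom (qMap_mk I le_rfl 1)).trans (homOfElt_one I n _ h1)).symm
    · intro hz
      obtain ⟨m, hle, h, hh⟩ := (cls_eq_zero_iff I L e _ _).1 hz
      let y : L.X (-1) := h.hom (Ideal.Quotient.mk (I ^ m) 1)
      refine homologyπ_eq_zero G 0 z (⟨y, m, fun a ha => killed I h a ha⟩ : DRing.torsionSub I (L.X (-1))) (Subtype.ext ?_)
      refine (ConcreteCategory.congr_hom hh _).trans ?_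
      exact (congrArg (homOfElt I _ _ (hwit z)).hom (qMap_mk I hle 1)).trans (homOfElt_one I _ _ (hwit z))
  exact ⟨((LinearMap.quotKerEquivOfSurjective (G.homologyπ 0).hom
    ((ModuleCat.epi_iff_surjective _).1 inferInstance)).symm.trans (Submodule.quotEquivOfEq _ _ hker)).trans
      (LinearMap.quotKerEquivOfSurjective Φ hsurj)⟩

end Groth.Agent.RGammaD
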