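import Groth.Agent.RGammaD.Univ

/-! `RΓ_I` and derived completion (Greenlees–May), and torsion preservation. -/

set_option autoImplicit false
set_option linter.style.haveILetI false

universe u

open CategoryTheory CategoryTheory.Limits CategoryTheory.Pretriangulated

attribute [local instance] HasDerivedCategory.standard

namespace Groth.Agent.RGammaD

open Groth.Agent.H9Misc Groth.Agent.H9Misc.ExtCechTors Groth.Agent.H9Misc.DRingCompl

variable {A : Type u} [CommRing A]

/-- Precomposition with `Γ_I J → J` is bijective on maps into derived complete objects. -/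
lemma bijective_pre_of_span [IsNoetherianRing A] {Z : Dual.D A}
    (J : DRing.Cx A) (hJ : ∀ n, Injective (J.X n)) :
    ∀ (s : Finset A), (∀ f ∈ s, Cg f Z) → ∀ (a : Ideal A), Ideal.span (s : Set A) = a →
      Function.Bijective (fun φ : DerivedCategory.Q.obj J ⟶ Z =>
        DerivedCategory.Q.map (incl a J) ≫ φ) := by
  classical
  intro s
  induction s using Finset.induction_on with
  | empty =>
    intro _ a ha
    rw [Finset.coe_empty, Ideal.span_empty] at ha
    subst ha
    haveI : ∀ n, IsIso ((incl (⊥ : Ideal A) J).f n) := fun n =>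
      (ConcreteCategory.isIso_iff_bijective _).2 ⟨Subtype.val_injective, fun x => ⟨⟨x, 1, fun c hc => by
        rw [pow_one, Ideal.mem_bot] at hc
        rw [hc, zero_smul]⟩, rfl⟩⟩
    haveI := HomologicalComplex.Hom.isIso_of_components (incl (⊥ : Ideal A) J)
    exact (asIso (DerivedCategory.Q.map (incl (⊥ : Ideal A) J))).symm.homFromEquiv.bijective
  | insert f s hfs ih =>
    intro hs a ha
    have ha' : Ideal.span (s : Set A) ⊔ Ideal.span {f} = a := by
      rw [← ha, Finset.coe_insert, Ideal.span_insert, sup_comm]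
    subst ha'
    have hTd := DerivedCategory.triangleOfSES_distinguished
      (stepSeq_shortExact (Ideal.span (s : Set A)) f J hJ)
    have h1 := DRingRHomCompl.bijective_of_loc hTd (loc_locCx f ((gam (Ideal.span (s : Set A))).obj J))
      (hs f (Finset.mem_insert_self f s))
    have h2 := ih (fun g hg => hs g (Finset.mem_insert_of_mem hg)) _ rfl
    refine Eq.mp (congrArg Function.Bijective (funext fun φ => ?_)) (h1.comp h2)
    exact (Category.assoc _ _ _).symm.trans (congrArg (· ≫ φ)
      ((DerivedCategory.Q.map_comp _ _).symm.trans (congrArg DerivedCategory.Q.map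
        (inclLE_incl le_sup_left J))))

section

variable (I : Ideal A) [DRing.HasRgammaI I]

/-- Maps into derived complete objects do not see `RΓ_I K → K`. -/
theorem bijective_ε_comp [IsNoetherianRing A] (K : Dual.D A) {Z : Dual.D A} (hZ : DRing.IsDerivedComplete I Z) :
    Function.Bijective (fun φ : K ⟶ Z => (DRing.RgammaIε I).app K ≫ φ) := by
  obtain ⟨J, hJ, hinj, ⟨eJ⟩⟩ := DRingRHomCompl.exists_resolution K
  obtain ⟨e, he⟩ := exists_iso_gam I J
  obtain ⟨s, hs⟩ := IsNoetherian.noetherian I
  have h := bijective_pre_of_span (Z := Z) J hinj s (fun f hf => hZ f (hs ▸ Ideal.subset_span hf)) I hs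
  let α := (DRing.RgammaI I).mapIso eJ ≪≫ e.symm
  have hα : ∀ φ : K ⟶ Z, (DRing.RgammaIε I).app K ≫ φ =
      α.hom ≫ (DerivedCategory.Q.map (incl I J) ≫ (eJ.inv ≫ φ)) := fun φ => by
    have hn := (DRing.RgammaIε I).naturality eJ.hom
    simp only [Functor.id_map] at hn
    simp only [α, Iso.trans_hom, Functor.mapIso_hom, Iso.symm_hom, ← he, Category.assoc,
      Iso.inv_hom_id_assoc]
    rw [reassoc_of% hn, Iso.hom_inv_id_assoc]
  rw [funext hα]
  exact α.symm.homFromEquiv.bijective.comp (h.comp eJ.homFromEquiv.bijective)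

/-- Completing `RΓ_I K → K` gives an isomorphism. -/
theorem isIso_completion_ε [IsNoetherianRing A] [DRing.HasDerivedCompletion I] (K : Dual.D A) :
    IsIso ((DRing.derivedCompletion I).map ((DRing.RgammaIε I).app K)) := by
  refine isIso_of_coyoneda_map_bijective _ fun Z => ?_
  let adj := DRing.derivedCompletionAdj I
  have h := bijective_ε_comp I K Z.property
  have e : (fun x : (DRing.derivedCompletion I).obj K ⟶ Z =>
      (DRing.derivedCompletion I).map ((DRing.RgammaIε I).app K) ≫ x) =
      (adj.homEquiv _ _).symm ∘ (fun φ : K ⟶ Z.obj => (DRing.RgammaIε I).app K ≫ φ) ∘ adj.homEquiv _ _ :=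
    funext fun x => (Equiv.eq_symm_apply _).2 (adj.homEquiv_naturality_left _ _)
  exact Eq.mp (congrArg Function.Bijective e.symm) ((Equiv.bijective _).comp (h.comp (Equiv.bijective _)))

/-- Maps from torsion objects do not see completion along a list. -/
theorem exists_refl_torsD [IsNoetherianRing A] (l : List A) (hl : ∀ f ∈ l, f ∈ I) (X : Dual.D A) :
    ∃ (Y : Dual.D A) (η : X ⟶ Y), Refl (fun Z => ∀ f ∈ l, Cg f Z) η ∧
      ∀ T, TorsD I T → Function.Bijective (fun φ : T ⟶ X => φ ≫ η) := by
  induction l with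
  | nil =>
    exact ⟨X, 𝟙 X, ⟨fun f hf => absurd hf List.not_mem_nil, fun Z _ n =>
      ⟨fun p q h => by simpa using h, fun q => ⟨q, Category.id_comp q⟩⟩⟩,
      fun T _ => (Iso.refl X).homToEquiv.bijective⟩
  | cons f l ih =>
    obtain ⟨Y, η, hη, hY⟩ := ih fun g hg => hl g (List.mem_cons_of_mem _ hg)
    obtain ⟨Z, θ, hθ, -, hg, W, j, d, hT, hW⟩ := exists_refl_one f Y
    refine ⟨Z, η ≫ θ, Refl.comp (Cg f) hη hθ _ ?_ (fun V hV g hg' => hV g (List.mem_cons_of_mem _ hg'))
      (fun V hV => hV f List.mem_cons_self), fun T hTT => ?_⟩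
    · intro g hg'
      rcases List.mem_cons.1 hg' with rfl | hg'
      · exact hθ.mem
      · exact hg g (hη.mem g hg')
    · have hf := hl f List.mem_cons_self
      have h2 : Function.Bijective (fun φ : T ⟶ Y => φ ≫ θ) := by
        refine ⟨fun x y h => sub_eq_zero.1 ?_, fun y => ?_⟩
        · obtain ⟨k, hk⟩ := Triangle.coyoneda_exact₂ _ (inv_rot_of_distTriang _ hT) (x - y)
            (show (x - y) ≫ θ = 0 by rw [Preadditive.sub_comp, sub_eq_zero]; exact h)
          rw [hk, hom_eq_zero_of_torsD I hTT hf (hW.shift f (-1)) k]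
          exact zero_comp
        · obtain ⟨k, hk⟩ := Triangle.coyoneda_exact₂ _ hT y (hom_eq_zero_of_torsD I hTT hf hW _)
          exact ⟨k, hk.symm⟩
      exact Eq.mp (congrArg Function.Bijective (funext fun φ => Category.assoc _ _ _)) (h2.comp (hY T hTT))

/-- Greenlees–May: `RΓ_I` does not see completion. -/
theorem nonempty_RgammaI_completion [IsNoetherianRing A] [DRing.HasDerivedCompletion I] (K : Dual.D A) :
    Nonempty ((DRing.RgammaI I).obj ((DRing.derivedCompletion I).obj K).obj ≅ (DRing.RgammaI I).obj K) := by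
  obtain ⟨s, hs⟩ := IsNoetherian.noetherian I
  obtain ⟨Y, η, hη, hb⟩ := exists_refl_torsD I s.toList (fun f hf => hs ▸ Ideal.subset_span (by simpa using hf)) K
  have hη' : Refl (DRing.IsDerivedComplete I) η :=
    ⟨(isDerivedComplete_iff_gens s hs Y).2 fun f hf => hη.mem f (by simpa using hf),
      fun Z hZ n => hη.bij Z (fun f hf => (isDerivedComplete_iff_gens s hs Z).1 hZ f (by simpa using hf)) n⟩
  obtain ⟨e⟩ := (refl_unit (I := I) K).exists_iso hη'
  refine ⟨(DRing.RgammaI I).mapIso e ≪≫ ?_⟩
  refine (exists_iso_of_universal I (torsD_RgammaI I K) ((DRing.RgammaIε I).app K ≫ η)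
    fun T hT => ?_).choose.symm
  exact Eq.mp (congrArg Function.Bijective (funext fun φ => Category.assoc _ _ _))
    ((hb T hT).comp (bijective_comp_ε I hT K))

end

/-! ### Torsion is preserved -/

lemma isPowerTorsion_of_tors {I : Ideal A} (hI : I.FG) {M : ModuleCat.{u} A}
    (h : ∀ f ∈ I, Tors f M) : LocCoh.IsPowerTorsion I M := fun x => by
  have hle : I ≤ Ideal.radical (LinearMap.ker (LinearMap.toSpanSingleton A M x) : Ideal A) := fun f hf => by
    obtain ⟨n, hn⟩ := h f hf x
    exact ⟨n, hn⟩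
  obtain ⟨n, hn⟩ := Ideal.exists_pow_le_of_le_radical_of_fg hle hI
  exact ⟨n, fun a ha => hn ha⟩

lemma tors_gam [IsNoetherianRing A] {g : A} (J : DRing.Cx A) (hJ : ∀ n, Injective (J.X n))
    (h : ∀ q, Tors g (J.homology q)) :
    ∀ (s : Finset A) (a : Ideal A), Ideal.span (s : Set A) = a → ∀ q, Tors g (((gam a).obj J).homology q) := by
  classical
  intro s
  induction s using Finset.induction_on with
  | empty =>
    intro a ha q
    rw [Finset.coe_empty, Ideal.span_empty] at ha
    subst ha
    haveI : ∀ n, IsIso ((incl (⊥ : Ideal A) J).f n) := fun n =>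
      (ConcreteCategory.isIso_iff_bijective _).2 ⟨Subtype.val_injective, fun x => ⟨⟨x, 1, fun c hc => by
        rw [pow_one, Ideal.mem_bot] at hc
        rw [hc, zero_smul]⟩, rfl⟩⟩
    haveI := HomologicalComplex.Hom.isIso_of_components (incl (⊥ : Ideal A) J)
    exact (h q).of_iso (asIso (HomologicalComplex.homologyMap (incl (⊥ : Ideal A) J) q)).symm
  | insert f s hfs ih =>
    intro a ha q x
    have ha' : Ideal.span (s : Set A) ⊔ Ideal.span {f} = a := by
      rw [← ha, Finset.coe_insert, Ideal.span_insert, sup_comm]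
    subst ha'
    have hS := stepSeq_shortExact (Ideal.span (s : Set A)) f J hJ
    obtain ⟨n, hn⟩ := ih _ rfl q (HomologicalComplex.homologyMap (stepSeq (Ideal.span (s : Set A)) f J).f q x)
    have hex := hS.homology_exact₁ (q - 1) q (by simp)
    rw [ShortComplex.moduleCat_exact_iff] at hex
    obtain ⟨y, hy⟩ := hex (g ^ n • x) ((map_smul _ _ _).trans hn)
    obtain ⟨m, hm⟩ := tors_locCx (Submonoid.powers f) (fun q' => ih _ rfl q') (q - 1) y
    refine ⟨m + n, ?_⟩
    rw [pow_add, mul_smul, ← hy]
    exact (map_smul _ _ _).symm.trans ((congrArg _ hm).trans (map_zero _))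

/-- `RΓ_J` preserves `I`-torsion cohomology. -/
theorem torsD_RgammaI_of_torsD [IsNoetherianRing A] {I : Ideal A} (J₀ : Ideal A) [DRing.HasRgammaI J₀]
    {Y : Dual.D A} (hY : TorsD I Y) : TorsD I ((DRing.RgammaI J₀).obj Y) := by
  obtain ⟨J, hJ, hinj, ⟨eJ⟩⟩ := DRingRHomCompl.exists_resolution Y
  obtain ⟨e, -⟩ := exists_iso_gam J₀ J
  obtain ⟨s, hs⟩ := IsNoetherian.noetherian J₀
  refine TorsD.of_iso I ?_ (e ≪≫ (DRing.RgammaI J₀).mapIso eJ.symm)
  intro i
  obtain ⟨eh⟩ := hd_iso ((gam J₀).obj J) i
  refine isPowerTorsion_of_iso I (isPowerTorsion_of_tors (IsNoetherian.noetherian I) fun g hg => ?_) eh.symm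
  exact tors_gam J hinj (fun q => TorsD.tors I (TorsD.of_iso I hY eJ) hg q) s J₀ hs i

end Groth.Agent.RGammaD
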