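import Mathlib
import Groth.Agent.LC.CohAcyclic
import Groth.Agent.LC.CohTorsion
import Groth.Agent.H9Misc.DRingHomCx
import Groth.Agent.H9Misc.DRingRHomCompl
import Groth.Agent.H9Misc.ExtCechTors
import Groth.Agent.H9Misc.KonLib

/-! `RΓ_I` on `D(A)`: it is computed by K-injective complexes, and, for Noetherian rings, it is
characterised by maps out of objects with torsion cohomology. -/

set_option autoImplicit false
set_option linter.style.haveILetI false

universe u

open CategoryTheory CategoryTheory.Limits CategoryTheory.Pretriangulated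

attribute [local instance] HasDerivedCategory.standard

namespace Groth.Agent.RGammaD

open Groth.Agent.H9Misc Groth.Agent.H9Misc.ExtCechTors

variable {A : Type u} [CommRing A] (I : Ideal A)

/-- The cohomology of `K` is `I`-power torsion. -/
abbrev TorsD (K : Dual.D A) : Prop := ∀ i : ℤ, LocCoh.IsPowerTorsion I (Dual.HD A K i)

/-- `Γ_I` termwise. -/
noncomputable abbrev gam : DRing.Cx A ⥤ DRing.Cx A :=
  (DRing.gammaI I).mapHomologicalComplex (ComplexShape.up ℤ)

/-- The inclusion `Γ_I J → J`. -/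
noncomputable def incl (J : DRing.Cx A) : (gam I).obj J ⟶ J where
  f n := (DRing.gammaIι I).app (J.X n)
  comm' _ _ _ := ((DRing.gammaIι I).naturality _).symm

lemma hd_iso (K : DRing.Cx A) (i : ℤ) :
    Nonempty ((DerivedCategory.homologyFunctor (ModuleCat.{u} A) i).obj (DerivedCategory.Q.obj K) ≅
      K.homology i) :=
  ⟨(DerivedCategory.homologyFunctorFactors (ModuleCat.{u} A) i).app K⟩

lemma isPowerTorsion_of_iso {M N : ModuleCat.{u} A} (h : LocCoh.IsPowerTorsion I M) (e : M ≅ N) :
    LocCoh.IsPowerTorsion I N :=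
  Groth.Agent.LC.isPowerTorsion_of_surjective (I := I) e.hom.hom e.toLinearEquiv.surjective h

lemma TorsD.of_iso {K L : Dual.D A} (h : TorsD I K) (e : K ≅ L) : TorsD I L := fun i =>
  isPowerTorsion_of_iso I (h i) ((DerivedCategory.homologyFunctor (ModuleCat.{u} A) i).mapIso e)

/-- A complex of torsion modules has torsion homology. -/
lemma torsD_of_termwise (K : DRing.Cx A) (h : ∀ n, LocCoh.IsPowerTorsion I (K.X n)) :
    TorsD I (DerivedCategory.Q.obj K) := fun i => by
  obtain ⟨e⟩ := hd_iso K i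
  refine isPowerTorsion_of_iso I (fun x => ?_) e.symm
  obtain ⟨z, rfl⟩ := exists_cycle_rep K i x
  obtain ⟨n, hn⟩ := h i (K.iCycles i z)
  refine ⟨n, fun a ha => ?_⟩
  have h0 : a • z = 0 := (ModuleCat.mono_iff_injective (K.iCycles i)).1 inferInstance
    ((map_smul (K.iCycles i).hom a z).trans ((hn a ha).trans (map_zero (K.iCycles i).hom).symm))
  exact ((map_smul (K.homologyπ i).hom a z).symm.trans (congrArg _ h0)).trans (map_zero _)

lemma torsD_gam (J : DRing.Cx A) : TorsD I (DerivedCategory.Q.obj ((gam I).obj J)) :=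
  torsD_of_termwise I _ fun n => Groth.Agent.LC.isPowerTorsion_torsionSub I (J.X n)

lemma TorsD.tors {K : DRing.Cx A} (h : TorsD I (DerivedCategory.Q.obj K)) {f : A} (hf : f ∈ I)
    (q : ℤ) : Tors f (K.homology q) := fun x => by
  obtain ⟨e⟩ := hd_iso K q
  obtain ⟨n, hn⟩ := isPowerTorsion_of_iso I (h q) e x
  exact ⟨n, hn _ (Ideal.pow_mem_pow hf n)⟩

/-! ### `RΓ_I` on K-injective complexes -/

section Compute

variable [DRing.HasRgammaI I]

attribute [local instance] DRingHomCx.qh_isLeftAdjoint

theorem isIso_unit (J : DRing.Cx A) [J.IsKInjective] :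
    IsIso (((DRing.gammaIKh I).totalRightDerivedUnit DerivedCategory.Qh
      (HomotopyCategory.quasiIso (ModuleCat.{u} A) (ComplexShape.up ℤ))).app
        ((HomotopyCategory.quotient (ModuleCat.{u} A) (ComplexShape.up ℤ)).obj J)) := by
  let W := HomotopyCategory.quasiIso (ModuleCat.{u} A) (ComplexShape.up ℤ)
  let adj := Adjunction.ofIsLeftAdjoint (DerivedCategory.Qh (C := ModuleCat.{u} A))
  let β : DRing.gammaIKh I ⟶ DerivedCategory.Qh ⋙ (DerivedCategory.Qh.rightAdjoint ⋙ DRing.gammaIKh I) :=
    Functor.whiskerRight adj.unit (DRing.gammaIKh I)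
  haveI := TriCat.isRightDerivedFunctor_of_adjunction adj W (DRing.gammaIKh I)
  let η := (DRing.gammaIKh I).totalRightDerivedUnit DerivedCategory.Qh W
  let i := Functor.rightDerivedUnique (L := DerivedCategory.Qh) _ _ β η W
  haveI := TriCat.isIso_unit_of_isKInjective adj J
  let X := (HomotopyCategory.quotient (ModuleCat.{u} A) (ComplexShape.up ℤ)).obj J
  have h : β.app X ≫ i.hom.app (DerivedCategory.Qh.obj X) = η.app X :=
    (Functor.rightDerivedNatTrans_app _ _ β η W (𝟙 _) X).trans (Category.id_comp _)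
  haveI : IsIso (β.app X) :=
    inferInstanceAs (IsIso ((DRing.gammaIKh I).map (adj.unit.app X)))
  change IsIso (η.app X)
  rw [← h]
  infer_instance

/-- `RΓ_I J = Γ_I J` for K-injective `J`, compatibly with the maps to `J`. -/
theorem exists_iso_gam (J : DRing.Cx A) [J.IsKInjective] :
    ∃ e : DerivedCategory.Q.obj ((gam I).obj J) ≅ (DRing.RgammaI I).obj (DerivedCategory.Q.obj J),
      e.hom ≫ (DRing.RgammaIε I).app (DerivedCategory.Q.obj J) = DerivedCategory.Q.map (incl I J) := by
  let q := HomotopyCategory.quotient (ModuleCat.{u} A) (ComplexShape.up ℤ)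
  let W := HomotopyCategory.quasiIso (ModuleCat.{u} A) (ComplexShape.up ℤ)
  let η := (DRing.gammaIKh I).totalRightDerivedUnit DerivedCategory.Qh W
  haveI : IsIso (η.app (q.obj J)) := isIso_unit I J
  let θ := DerivedCategory.quotientCompQhIso (ModuleCat.{u} A)
  have hfac : η.app (q.obj J) ≫ (DRing.RgammaIε I).app (DerivedCategory.Qh.obj (q.obj J)) =
      DerivedCategory.Qh.map (q.map (incl I J)) := by
    refine (Functor.rightDerived_fac_app (DRing.RgammaI I) η W (𝟭 (Dual.D A))
      (DRing.gammaIτ I ≫ (Functor.rightUnitor _).inv) (q.obj J)).trans ?_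
    refine (Category.comp_id _).trans ?_
    refine (Quotient.natTransLift_app (r := _) (τ := DRing.gammaIτ0 I) (X := J)).trans ?_
    dsimp [DRing.gammaIτ0]
    simp only [Category.id_comp, Category.comp_id, CategoryTheory.Functor.map_id, ← Functor.map_comp]
    refine congrArg DerivedCategory.Qh.map (congrArg q.map ?_)
    ext n : 1
    simp [incl]
    exact (Category.id_comp _).trans (Category.comp_id _)
  refine ⟨(θ.app ((gam I).obj J)).symm ≪≫
    DerivedCategory.Qh.mapIso (((DRing.gammaI I).mapHomotopyCategoryFactors (ComplexShape.up ℤ)).app J).symm ≪≫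
    asIso (η.app (q.obj J)) ≪≫ (DRing.RgammaI I).mapIso (θ.app J), ?_⟩
  simp only [Iso.trans_hom, Functor.mapIso_hom, asIso_hom, Iso.symm_hom, Iso.app_inv, Iso.app_hom,
    Category.assoc]
  have hn := (DRing.RgammaIε I).naturality (θ.hom.app J)
  simp only [Functor.id_map] at hn
  rw [hn]
  refine (congrArg (θ.inv.app ((gam I).obj J) ≫ DerivedCategory.Qh.map _ ≫ ·)
    ((Category.assoc _ _ _).symm.trans (congrArg (· ≫ θ.hom.app J) hfac))).trans ?_
  have hθ : DerivedCategory.Qh.map (q.map (incl I J)) ≫ θ.hom.app J =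
      θ.hom.app ((gam I).obj J) ≫ DerivedCategory.Q.map (incl I J) := θ.hom.naturality (incl I J)
  have h1 : ((DRing.gammaI I).mapHomotopyCategoryFactors (ComplexShape.up ℤ)).inv.app J =
      𝟙 (q.obj ((gam I).obj J)) := rfl
  refine (congrArg (θ.inv.app ((gam I).obj J) ≫ ·) (((congrArg (· ≫ _)
    ((congrArg DerivedCategory.Qh.map h1).trans (CategoryTheory.Functor.map_id _ _))).trans
      (Category.id_comp _)).trans hθ)).trans ?_
  exact θ.inv_hom_id_app_assoc _ _

end Compute

/-! ### Orthogonality of torsion and local objects -/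

lemma bij_pow {f : A} {N : Type*} [AddCommGroup N] [Module A N]
    (h : Function.Bijective (f • · : N → N)) : ∀ n : ℕ, Function.Bijective (f ^ n • · : N → N)
  | 0 => by
    rw [show (f ^ 0 • · : N → N) = id from funext fun x => by simp]
    exact Function.bijective_id
  | n + 1 => by
    rw [show (f ^ (n + 1) • · : N → N) = (f • ·) ∘ (f ^ n • ·) from
      funext fun x => by simp [pow_succ', mul_smul]]
    exact h.comp (bij_pow h n)

lemma homologyMap_smul_id (K : DRing.Cx A) (a : A) (i : ℤ) :
    HomologicalComplex.homologyMap (a • 𝟙 K) i = a • 𝟙 (K.homology i) := by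
  have e : (HomologicalComplex.shortComplexFunctor (ModuleCat.{u} A) (ComplexShape.up ℤ) i).map (a • 𝟙 K) =
      a • 𝟙 (K.sc i) := ShortComplex.hom_ext _ _ rfl rfl rfl
  exact (congrArg (fun φ : K.sc i ⟶ K.sc i => ShortComplex.homologyMap φ) e).trans
    ((ShortComplex.homologyMap_smul (R := A) (S₁ := K.sc i) (S₂ := K.sc i) (𝟙 (K.sc i)) a).trans
      (congrArg (a • ·) (ShortComplex.homologyMap_id (K.sc i))))

lemma bij_homology {f : A} (K : DRing.Cx A) (hK : RlimSmul.Loc f (DerivedCategory.Q.obj K)) (q : ℤ) :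
    Function.Bijective (f • · : K.homology q → K.homology q) := by
  haveI : IsIso (DerivedCategory.Q.map (f • 𝟙 K)) := by
    rw [Functor.map_smul, CategoryTheory.Functor.map_id]
    exact hK
  haveI : IsIso (HomologicalComplex.homologyMap (f • 𝟙 K) q) :=
    (NatIso.isIso_map_iff (DerivedCategory.homologyFunctorFactors (ModuleCat.{u} A) q) (f • 𝟙 K)).1
      (inferInstanceAs (IsIso ((DerivedCategory.homologyFunctor (ModuleCat.{u} A) q).map
        (DerivedCategory.Q.map (f • 𝟙 K)))))
  have h := (ConcreteCategory.isIso_iff_bijective (HomologicalComplex.homologyMap (f • 𝟙 K) q)).1 inferInstance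
  have he : HomologicalComplex.homologyMap (f • 𝟙 K) q = f • 𝟙 (K.homology q) := by
    exact homologyMap_smul_id K f q
  rw [he] at h
  exact h

lemma loc_locCx (f : A) (K : DRing.Cx A) :
    RlimSmul.Loc f (DerivedCategory.Q.obj ((DerCA.locCx (Submonoid.powers f)).obj K)) := by
  haveI := KonLib.isIso_smul_locCx f K
  show IsIso (f • 𝟙 _)
  rw [← CategoryTheory.Functor.map_id, ← Functor.map_smul]
  infer_instance

lemma bij_loc (f : A) (K : DRing.Cx A) (q : ℤ) :
    Function.Bijective (f • · : ((DerCA.locCx (Submonoid.powers f)).obj K).homology q → _) :=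
  bij_homology _ (loc_locCx f K) q

lemma isZero_Q (K : DRing.Cx A) (h : ∀ q, IsZero (K.homology q)) : IsZero (DerivedCategory.Q.obj K) := by
  haveI : QuasiIso (0 : K ⟶ K) := ⟨fun q => by
    rw [quasiIsoAt_iff_isIso_homologyMap]
    exact ⟨0, (h q).eq_of_src _ _, (h q).eq_of_src _ _⟩⟩
  haveI : IsIso (DerivedCategory.Q.map (0 : K ⟶ K)) := inferInstance
  have h0 : DerivedCategory.Q.map (0 : K ⟶ K) = 0 := Functor.map_zero _ _ _
  rw [IsZero.iff_id_eq_zero, ← IsIso.hom_inv_id (DerivedCategory.Q.map (0 : K ⟶ K))]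
  exact (congrArg (· ≫ _) h0).trans zero_comp

/-- Localization does nothing to an `f`-local complex. -/
lemma quasiIso_locCxUnit {f : A} {K : DRing.Cx A} (hK : RlimSmul.Loc f (DerivedCategory.Q.obj K)) :
    QuasiIso (DerCA.locCxUnit (Submonoid.powers f) K) := ⟨fun q => by
  obtain ⟨h1, h2⟩ := unit_kernel_cokernel f K q
  rw [quasiIsoAt_iff_isIso_homologyMap, ConcreteCategory.isIso_iff_bijective]
  refine ⟨(injective_iff_map_eq_zero _).2 fun x hx => ?_, fun b => ?_⟩
  · obtain ⟨i, hi⟩ := h1 x hx
    exact (bij_pow (bij_homology K hK q) i).1 (hi.trans (smul_zero _).symm)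
  · obtain ⟨i, a, ha⟩ := h2 b
    obtain ⟨a', rfl⟩ := (bij_pow (bij_homology K hK q) i).2 a
    exact ⟨a', (bij_pow (bij_loc f K q) i).1 ((map_smul _ _ _).symm.trans ha)⟩⟩

/-- No maps from a torsion object into an `f`-local one. -/
theorem hom_eq_zero_of_torsD {T W : Dual.D A} (hT : TorsD I T) {f : A} (hf : f ∈ I)
    (hW : RlimSmul.Loc f W) (α : T ⟶ W) : α = 0 := by
  obtain ⟨J, hJ, -, ⟨eJ⟩⟩ := DRingRHomCompl.exists_resolution W
  obtain ⟨φ, hφ⟩ := BddInjective.lift_to_injective (L := J)
    ((DerivedCategory.Q.objObjPreimageIso T).hom ≫ α ≫ eJ.hom)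
  let S := Submonoid.powers f
  let X := DerivedCategory.Q.objPreimage T
  have hX : ∀ q, Tors f (X.homology q) := fun q =>
    TorsD.tors I (TorsD.of_iso I hT (DerivedCategory.Q.objObjPreimageIso T).symm) hf q
  have hac : ∀ q, IsZero (((DerCA.locCx S).obj X).homology q) := fun q => by
    refine ModuleCat.isZero_iff_subsingleton.2 (subsingleton_of_forall_eq 0 fun x => ?_)
    obtain ⟨n, hn⟩ := tors_locCx S hX q x
    exact (Groth.Agent.RGammaD.bij_pow (bij_loc f X q) n).1 (hn.trans (smul_zero _).symm)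
  have hz : DerivedCategory.Q.map φ ≫ DerivedCategory.Q.map (DerCA.locCxUnit S J) = 0 := by
    have : φ ≫ DerCA.locCxUnit S J = DerCA.locCxUnit S X ≫ (DerCA.locCx S).map φ := by
      ext n : 1
      exact (DerCA.locUnit S).naturality (φ.f n)
    rw [← Functor.map_comp, this, Functor.map_comp,
      (isZero_Q _ hac).eq_of_src (DerivedCategory.Q.map ((DerCA.locCx S).map φ)) 0, comp_zero]
  haveI := quasiIso_locCxUnit (hW.of_iso f eJ)
  have : DerivedCategory.Q.map φ = 0 := by
    rw [← cancel_mono (DerivedCategory.Q.map (DerCA.locCxUnit S J)), hz, zero_comp]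
  rw [← cancel_epi (DerivedCategory.Q.objObjPreimageIso T).hom, ← cancel_mono eJ.hom, Category.assoc,
    ← hφ, this, comp_zero, zero_comp]

end Groth.Agent.RGammaD
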