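import Groth.Agent.RGammaD.ArtinRees
import Groth.Agent.H9Misc.ExtCechTors
import Groth.Agent.KFlatLib.PsiC

/-! The extended Čech complex as a functor; it computes `RΓ_J`, and its value on `I^n M` is pro-zero
after cones. -/

set_option autoImplicit false
set_option linter.style.haveILetI false
set_option backward.isDefEq.respectTransparency false
set_option backward.isDefEq.respectTransparency.types false

universe u

open CategoryTheory CategoryTheory.Limits CategoryTheory.Pretriangulated CochainComplex Opposite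

attribute [local instance] HasDerivedCategory.standard

namespace Groth.Agent.RGammaD

open Groth.Agent.H9Misc Groth.Agent.H9Misc.ExtCechTors

variable {A : Type u} [CommRing A]

lemma cxMap_id (M : ModuleCat.{u} A) : ∀ gs : List A, H1CechLC.cxMap (𝟙 M) gs = 𝟙 _
  | [] => CategoryTheory.Functor.map_id _ M
  | g :: gs => by
    refine Eq.trans ?_ ((CategoryTheory.shiftFunctor (DRing.Cx A) (-1 : ℤ)).map_id _)
    refine congrArg (CategoryTheory.shiftFunctor (DRing.Cx A) (-1 : ℤ)).map ?_
    simp only [cxMap_id M gs, CategoryTheory.Functor.map_id]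
    exact mappingCone.map_id _

lemma cxMap_comp {M N P : ModuleCat.{u} A} (a : M ⟶ N) (b : N ⟶ P) :
    ∀ gs : List A, H1CechLC.cxMap (a ≫ b) gs = H1CechLC.cxMap a gs ≫ H1CechLC.cxMap b gs
  | [] => CategoryTheory.Functor.map_comp _ a b
  | g :: gs => by
    refine Eq.trans ?_ ((CategoryTheory.shiftFunctor (DRing.Cx A) (-1 : ℤ)).map_comp _ _)
    refine congrArg (CategoryTheory.shiftFunctor (DRing.Cx A) (-1 : ℤ)).map ?_
    simp only [cxMap_comp a b gs, CategoryTheory.Functor.map_comp]
    exact mappingCone.map_comp _ _ _ _ _ _ _ _ _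

/-- The extended Čech complex, as a functor. -/
noncomputable def cechF (gs : List A) : ModuleCat.{u} A ⥤ DRing.Cx A where
  obj M := DerCA.extCech M gs
  map a := H1CechLC.cxMap a gs
  map_id M := cxMap_id M gs
  map_comp a b := cxMap_comp a b gs

/-- The projection `Č(N) → N`. -/
noncomputable def cechToSingle : ∀ gs : List A,
    cechF gs ⟶ HomologicalComplex.single (ModuleCat.{u} A) (ComplexShape.up ℤ) 0
  | [] => { app := fun M => 𝟙 _, naturality := fun M N a => (Category.comp_id _).trans (Category.id_comp _).symm }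
  | g :: gs =>
    { app := fun M => mappingCocone.fst (DerCA.locCxUnit (Submonoid.powers g) (DerCA.extCech M gs)) ≫
        (cechToSingle gs).app M
      naturality := fun M N a => by
        have h : H1CechLC.cxMap a (g :: gs) ≫ mappingCocone.fst (DerCA.locCxUnit (Submonoid.powers g) (DerCA.extCech N gs)) =
            mappingCocone.fst (DerCA.locCxUnit (Submonoid.powers g) (DerCA.extCech M gs)) ≫ H1CechLC.cxMap a gs := by
          refine HomologicalComplex.hom_ext _ _ fun p => ?_
          have hf := H1CechLC.map_f_fst (φ₁ := DerCA.locCxUnit (Submonoid.powers g) (DerCA.extCech M gs))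
            (φ₂ := DerCA.locCxUnit (Submonoid.powers g) (DerCA.extCech N gs))
            (H1CechLC.cxMap a gs) ((DerCA.locCx (Submonoid.powers g)).map (H1CechLC.cxMap a gs))
            (H1CechLC.locCxUnit_naturality _ _) (p + -1) p (by omega)
          simp [mappingCocone.fst, H1CechLC.cxMap]
          rw [HomComplex.Cochain.leftShift_v _ (-1) 0 _ p p _ (p + -1) (by omega),
            HomComplex.Cochain.leftShift_v _ (-1) 0 _ p p _ (p + -1) (by omega)]
          simp
          exact hf
        refine (Category.assoc _ _ _).symm.trans ((congrArg (· ≫ _) h).trans ?_)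
        refine (Category.assoc _ _ _).trans (Eq.trans ?_ (Category.assoc _ _ _).symm)
        exact congrArg (_ ≫ ·) ((cechToSingle gs).naturality a) }

/-- The inclusion of the localised part. -/
noncomputable def cechInr (g : A) (gs : List A) :
    (cechF gs ⋙ DerCA.locCx (Submonoid.powers g)) ⋙ CategoryTheory.shiftFunctor (DRing.Cx A) (-1 : ℤ) ⟶ cechF (g :: gs) where
  app M := (CategoryTheory.shiftFunctor (DRing.Cx A) (-1 : ℤ)).map
    (mappingCone.inr (DerCA.locCxUnit (Submonoid.powers g) (DerCA.extCech M gs)))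
  naturality M N a := by
    refine ((CategoryTheory.shiftFunctor (DRing.Cx A) (-1 : ℤ)).map_comp _ _).symm.trans
      (Eq.trans ?_ ((CategoryTheory.shiftFunctor (DRing.Cx A) (-1 : ℤ)).map_comp _ _))
    refine congrArg (CategoryTheory.shiftFunctor (DRing.Cx A) (-1 : ℤ)).map ?_
    refine HomologicalComplex.hom_ext _ _ fun p => ?_
    simp [mappingCone.map, cechF]

/-- The projection to the previous Čech complex. -/
noncomputable def cechFst (g : A) (gs : List A) : cechF (g :: gs) ⟶ cechF gs where
  app M := mappingCocone.fst (DerCA.locCxUnit (Submonoid.powers g) (DerCA.extCech M gs))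
  naturality M N a := by
    refine HomologicalComplex.hom_ext _ _ fun p => ?_
    have hf := H1CechLC.map_f_fst (φ₁ := DerCA.locCxUnit (Submonoid.powers g) (DerCA.extCech M gs))
      (φ₂ := DerCA.locCxUnit (Submonoid.powers g) (DerCA.extCech N gs))
      (H1CechLC.cxMap a gs) ((DerCA.locCx (Submonoid.powers g)).map (H1CechLC.cxMap a gs))
      (H1CechLC.locCxUnit_naturality _ _) (p + -1) p (by omega)
    simp [cechF, mappingCocone.fst, H1CechLC.cxMap]
    rw [HomComplex.Cochain.leftShift_v _ (-1) 0 _ p p _ (p + -1) (by omega),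
      HomComplex.Cochain.leftShift_v _ (-1) 0 _ p p _ (p + -1) (by omega)]
    simp
    exact hf

/-! ### Cones commute with localization -/

/-- Cones of equal maps. -/
noncomputable def coneCongr {K L : DRing.Cx A} {t t' : K ⟶ L} (h : t = t') : mappingCone t ≅ mappingCone t' :=
  eqToIso (congrArg (fun t => mappingCone t) h)

lemma coneCongr_fst {K L : DRing.Cx A} {t t' : K ⟶ L} (h : t = t') (p : ℤ) :
    (coneCongr h).hom.f p ≫ (mappingCone.fst t').1.v p (p + 1) rfl = (mappingCone.fst t).1.v p (p + 1) rfl := by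
  subst h
  exact Category.id_comp _

lemma coneCongr_snd {K L : DRing.Cx A} {t t' : K ⟶ L} (h : t = t') (p : ℤ) :
    (coneCongr h).hom.f p ≫ (mappingCone.snd t').v p p (add_zero p) = (mappingCone.snd t).v p p (add_zero p) := by
  subst h
  exact Category.id_comp _

lemma mapIso_fst {K L : DRing.Cx A} (t : K ⟶ L) (G : ModuleCat.{u} A ⥤ ModuleCat.{u} A) [G.Additive] (p : ℤ) :
    (mappingCone.mapHomologicalComplexIso t G).hom.f p ≫
        (mappingCone.fst ((G.mapHomologicalComplex (ComplexShape.up ℤ)).map t)).1.v p (p + 1) rfl =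
      G.map ((mappingCone.fst t).1.v p (p + 1) rfl) := by
  simp [mappingCone.mapHomologicalComplexIso, mappingCone.mapHomologicalComplexXIso_eq _ _ p (p + 1) rfl,
    mappingCone.mapHomologicalComplexXIso']
  exact Category.comp_id _

lemma mapIso_snd {K L : DRing.Cx A} (t : K ⟶ L) (G : ModuleCat.{u} A ⥤ ModuleCat.{u} A) [G.Additive] (p : ℤ) :
    (mappingCone.mapHomologicalComplexIso t G).hom.f p ≫
        (mappingCone.snd ((G.mapHomologicalComplex (ComplexShape.up ℤ)).map t)).v p p (add_zero p) =
      G.map ((mappingCone.snd t).v p p (add_zero p)) := by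
  simp [mappingCone.mapHomologicalComplexIso, mappingCone.mapHomologicalComplexXIso_eq _ _ p (p + 1) rfl,
    mappingCone.mapHomologicalComplexXIso']
  exact Category.comp_id _

lemma loc_smul_id (f : A) (S : Submonoid A) (X : DRing.Cx A) :
    (DerCA.locCx S).map (f • 𝟙 X) = f • 𝟙 ((DerCA.locCx S).obj X) := by
  ext p : 1
  refine ModuleCat.hom_ext (IsLocalizedModule.linearMap_ext S (LocalizedModule.mkLinearMap S (X.X p))
    (LocalizedModule.mkLinearMap S (X.X p)) ?_)
  refine LinearMap.ext fun x => ?_
  exact (IsLocalizedModule.map_apply S _ (LocalizedModule.mkLinearMap S (X.X p)) _ x).trans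
    (map_smul (LocalizedModule.mkLinearMap S (X.X p)) f x)

/-- `(F f X)_S ≅ F f (X_S)`. -/
noncomputable def coneLocIso (f : A) (S : Submonoid A) :
    KonLib.F f ⋙ DerCA.locCx S ≅ DerCA.locCx S ⋙ KonLib.F f :=
  NatIso.ofComponents (fun X => mappingCone.mapHomologicalComplexIso (f • 𝟙 X) (DerCA.locFunctor S) ≪≫
      coneCongr (loc_smul_id f S X))
    fun {X Y} φ => by
      let L := DerCA.locFunctor S
      let T : ∀ Z : DRing.Cx A, (DerCA.locCx S).obj Z ⟶ (DerCA.locCx S).obj Z := fun Z => f • 𝟙 _
      refine HomologicalComplex.hom_ext _ _ fun p => ?_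
      refine mappingCone.ext_to (T Y) p (p + 1) rfl ?_ ?_
      · have hX := (congrArg (fun t => (mappingCone.mapHomologicalComplexIso (f • 𝟙 X) L).hom.f p ≫ t)
          (coneCongr_fst (loc_smul_id f S X) p)).trans (mapIso_fst (f • 𝟙 X) L p)
        have hY := (congrArg (fun t => (mappingCone.mapHomologicalComplexIso (f • 𝟙 Y) L).hom.f p ≫ t)
          (coneCongr_fst (loc_smul_id f S Y) p)).trans (mapIso_fst (f • 𝟙 Y) L p)
        have hA := H1CechLC.map_f_fst (φ₁ := f • 𝟙 X) (φ₂ := f • 𝟙 Y) φ φ (by simp) p (p + 1) rfl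
        have hB := H1CechLC.map_f_fst (φ₁ := T X) (φ₂ := T Y)
          ((DerCA.locCx S).map φ) ((DerCA.locCx S).map φ) (by simp [T]) p (p + 1) rfl
        refine ((Category.assoc _ _ _).trans (congrArg (L.map (((KonLib.F f).map φ).f p) ≫ ·)
          ((Category.assoc _ _ _).trans hY))).trans ?_
        refine Eq.trans ?_ ((Category.assoc _ _ _).trans ((Category.assoc _ _ _).trans
          (congrArg ((mappingCone.mapHomologicalComplexIso (f • 𝟙 X) L).hom.f p ≫ ·)
            (congrArg ((coneCongr (loc_smul_id f S X)).hom.f p ≫ ·) hB)))).symm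
        refine ((L.map_comp _ _).symm.trans ((congrArg L.map hA).trans (L.map_comp _ _))).trans ?_
        refine ((congrArg (· ≫ _) hX.symm).trans ?_)
        simp only [Category.assoc]
        rfl
      · have hX := (congrArg (fun t => (mappingCone.mapHomologicalComplexIso (f • 𝟙 X) L).hom.f p ≫ t)
          (coneCongr_snd (loc_smul_id f S X) p)).trans (mapIso_snd (f • 𝟙 X) L p)
        have hY := (congrArg (fun t => (mappingCone.mapHomologicalComplexIso (f • 𝟙 Y) L).hom.f p ≫ t)
          (coneCongr_snd (loc_smul_id f S Y) p)).trans (mapIso_snd (f • 𝟙 Y) L p)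
        have hA := H1CechLC.map_f_snd (φ₁ := f • 𝟙 X) (φ₂ := f • 𝟙 Y) φ φ (by simp) p
        have hB := H1CechLC.map_f_snd (φ₁ := T X) (φ₂ := T Y)
          ((DerCA.locCx S).map φ) ((DerCA.locCx S).map φ) (by simp [T]) p
        refine ((Category.assoc _ _ _).trans (congrArg (L.map (((KonLib.F f).map φ).f p) ≫ ·)
          ((Category.assoc _ _ _).trans hY))).trans ?_
        refine Eq.trans ?_ ((Category.assoc _ _ _).trans ((Category.assoc _ _ _).trans
          (congrArg ((mappingCone.mapHomologicalComplexIso (f • 𝟙 X) L).hom.f p ≫ ·)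
            (congrArg ((coneCongr (loc_smul_id f S X)).hom.f p ≫ ·) hB)))).symm
        refine ((L.map_comp _ _).symm.trans ((congrArg L.map hA).trans (L.map_comp _ _))).trans ?_
        refine ((congrArg (· ≫ _) hX.symm).trans ?_)
        simp only [Category.assoc]
        rfl

/-- `(konR fs X)_S ≅ konR fs (X_S)`. -/
noncomputable def konLocIso : ∀ (fs : List A) (S : Submonoid A),
    konR fs ⋙ DerCA.locCx S ≅ DerCA.locCx S ⋙ konR fs
  | [], S => Functor.leftUnitor _ ≪≫ (Functor.rightUnitor _).symm
  | f :: r, S => Functor.associator _ _ _ ≪≫ Functor.isoWhiskerLeft _ (konLocIso r S) ≪≫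
      (Functor.associator _ _ _).symm ≪≫ Functor.isoWhiskerRight (coneLocIso f S) _ ≪≫ Functor.associator _ _ _

/-! ### Pro-zero cones of Čech complexes -/

/-- Pro-zero homology of all cones of all shifts. -/
def PZK (fs : List A) (Y : Sys A) : Prop :=
  ∀ a : ℤ, PZ ((Y ⋙ CategoryTheory.shiftFunctor (DRing.Cx A) a) ⋙ konR fs)

lemma PZK.loc {fs : List A} {Y : Sys A} (h : PZK fs Y) (g : A) :
    PZK fs (Y ⋙ DerCA.locCx (Submonoid.powers g)) := fun a =>
  ((h a).loc g).of_iso (Functor.associator _ _ _ ≪≫ Functor.isoWhiskerLeft _ (konLocIso fs (Submonoid.powers g)) ≪≫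
    (Functor.associator _ _ _).symm ≪≫ Functor.isoWhiskerRight (Functor.associator _ _ _ ≪≫
      Functor.isoWhiskerLeft Y (((DerCA.locCx (Submonoid.powers g)).commShiftIso a)) ≪≫
        (Functor.associator _ _ _).symm) _)

lemma PZK.shift {fs : List A} {Y : Sys A} (h : PZK fs Y) (b : ℤ) :
    PZK fs (Y ⋙ CategoryTheory.shiftFunctor (DRing.Cx A) b) := fun a =>
  (h (b + a)).of_iso (Functor.isoWhiskerRight (Functor.isoWhiskerLeft Y
    (CategoryTheory.shiftFunctorAdd (DRing.Cx A) b a) ≪≫ (Functor.associator _ _ _).symm) _)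

/-- The cones on `Č(I^n M)` have pro-zero homology. -/
theorem pzk_cech [IsNoetherianRing A] {I : Ideal A} (M : ModuleCat.{u} A) [Module.Finite A M]
    (fs : List A) (hfs : Ideal.span {x : A | x ∈ fs} = I) :
    ∀ gs : List A, PZK fs (powSys I M ⋙ cechF gs)
  | [] => fun a => (pz_powSys M fs hfs a).of_iso (Functor.isoWhiskerRight (Functor.isoWhiskerRight
      (Functor.isoWhiskerLeft (powSys I M) (NatIso.ofComponents (fun N => Iso.refl _)
        (fun f => (Category.comp_id _).trans (Category.id_comp _).symm) :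
          HomologicalComplex.single (ModuleCat.{u} A) (ComplexShape.up ℤ) 0 ≅ cechF ([] : List A))) _) _)
  | g :: gs => fun a => by
    have ih := pzk_cech M fs hfs gs
    let sh := CategoryTheory.shiftFunctor (DRing.Cx A) a
    have σ : ∀ n p, (((ShortComplex.mk ((cechInr g gs).app ((powSys I M).obj (op n)))
        ((cechFst g gs).app ((powSys I M).obj (op n)))
        (DRingCechCompl.coconeSeq (DerCA.locCxUnit (Submonoid.powers g)
          (DerCA.extCech ((powSys I M).obj (op n)) gs))).zero).map sh).map
        (HomologicalComplex.eval _ (ComplexShape.up ℤ) p)).Splitting := fun n p => by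
      let σ0 := DRingCechCompl.coconeSplitting (DerCA.locCxUnit (Submonoid.powers g)
          (DerCA.extCech ((powSys I M).obj (op n)) gs)) (p + a)
      exact { r := σ0.r, s := σ0.s, f_r := σ0.f_r, s_g := σ0.s_g, id := σ0.id }
    refine PZ.ext (Functor.whiskerRight (Functor.whiskerRight (Functor.whiskerLeft (powSys I M) (cechInr g gs)) sh) (konR fs))
      (Functor.whiskerRight (Functor.whiskerRight (Functor.whiskerLeft (powSys I M) (cechFst g gs)) sh) (konR fs))
      (fun n => ?_) (fun n => ?_) ((ih.loc g).shift (-1) a) (ih a)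
    · exact (((ShortComplex.mk ((cechInr g gs).app ((powSys I M).obj (op n)))
        ((cechFst g gs).app ((powSys I M).obj (op n)))
        (DRingCechCompl.coconeSeq (DerCA.locCxUnit (Submonoid.powers g)
          (DerCA.extCech ((powSys I M).obj (op n)) gs))).zero).map sh).map (konR fs)).zero
    · exact shortExact_konR fs (σ n)

end Groth.Agent.RGammaD
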