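import Groth.Agent.RGammaD.Kon

/-! The Artin–Rees lemma for iterated cones: the cones on `I^n M` have pro-zero homology. -/

set_option autoImplicit false
set_option linter.style.haveILetI false
set_option backward.isDefEq.respectTransparency false

universe u

open CategoryTheory CategoryTheory.Limits CochainComplex Opposite

attribute [local instance] HasDerivedCategory.standard

namespace Groth.Agent.RGammaD

open Groth.Agent.H9Misc Groth.Agent.H9Misc.ExtCechTors

variable {A : Type u} [CommRing A]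

/-- `φ` is degreewise the inclusion of `I^n X`. -/
def RangeI (I : Ideal A) (n : ℕ) {Y X : DRing.Cx A} (φ : Y ⟶ X) : Prop :=
  ∀ p, Function.Injective (φ.f p) ∧ LinearMap.range (φ.f p).hom = I ^ n • ⊤

lemma RangeI.shift {I : Ideal A} {n : ℕ} {Y X : DRing.Cx A} {φ : Y ⟶ X} (h : RangeI I n φ) (a : ℤ) :
    RangeI I n ((CategoryTheory.shiftFunctor (DRing.Cx A) a).map φ) := fun p => h (p + a)

lemma mem_smul_top_of_mem {I : Ideal A} {M N : Type u} [AddCommGroup M] [Module A M] [AddCommGroup N]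
    [Module A N] (g : M →ₗ[A] N) {n : ℕ} {x : M} (hx : x ∈ I ^ n • (⊤ : Submodule A M)) :
    g x ∈ I ^ n • (⊤ : Submodule A N) :=
  have h : (I ^ n • (⊤ : Submodule A M)).map g ≤ I ^ n • (⊤ : Submodule A N) := by
    rw [Submodule.map_smul'']; exact Submodule.smul_mono le_rfl le_top
  h ⟨x, hx, rfl⟩

lemma RangeI.cone {I : Ideal A} {n : ℕ} {Y X : DRing.Cx A} {φ : Y ⟶ X} (h : RangeI I n φ) (f : A) :
    RangeI I n ((KonLib.F f).map φ) := by
  intro p
  have e1 := fun y => ConcreteCategory.congr_hom (H1CechLC.map_f_fst (φ₁ := f • 𝟙 Y) (φ₂ := f • 𝟙 X)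
    φ φ (by simp) p (p + 1) rfl) y
  have e2 := fun y => ConcreteCategory.congr_hom (H1CechLC.map_f_snd (φ₁ := f • 𝟙 Y) (φ₂ := f • 𝟙 X)
    φ φ (by simp) p) y
  simp only [ConcreteCategory.comp_apply] at e1 e2
  refine ⟨fun x y hxy => H1CechLC.hom_ext_cone _ p ((h (p + 1)).1 ?_) ((h p).1 ?_), le_antisymm ?_ fun z hz => ?_⟩
  · rw [← e1, ← e1]
    exact congrArg _ hxy
  · rw [← e2, ← e2]
    exact congrArg _ hxy
  · rintro _ ⟨y, rfl⟩
    have hid := ConcreteCategory.congr_hom (mappingCone.id_X (f • 𝟙 X) p (p + 1) rfl) (((KonLib.F f).map φ).f p y)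
    simp only [ModuleCat.hom_add, ModuleCat.hom_id, ModuleCat.hom_comp, LinearMap.add_apply,
      LinearMap.comp_apply, LinearMap.id_apply] at hid
    refine hid ▸ Submodule.add_mem _ (mem_smul_top_of_mem ((mappingCone.inl (f • 𝟙 X)).v (p + 1) p (by omega)).hom ?_)
      (mem_smul_top_of_mem ((mappingCone.inr (f • 𝟙 X)).f p).hom ?_)
    · exact (h (p + 1)).2.le ⟨_, (e1 y).symm⟩
    · exact (h p).2.le ⟨_, (e2 y).symm⟩
  · obtain ⟨k, hk⟩ := (h (p + 1)).2.ge (mem_smul_top_of_mem ((mappingCone.fst (f • 𝟙 X)).1.v p (p + 1) rfl).hom hz)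
    obtain ⟨l, hl⟩ := (h p).2.ge (mem_smul_top_of_mem ((mappingCone.snd (f • 𝟙 X)).v p p (add_zero p)).hom hz)
    obtain ⟨y, rfl, rfl⟩ := H1CechLC.exists_cone_elt (f • 𝟙 Y) p k l
    exact ⟨y, H1CechLC.hom_ext_cone _ p ((e1 y).trans hk) ((e2 y).trans hl)⟩

lemma RangeI.konR {I : Ideal A} {n : ℕ} : ∀ (fs : List A) {Y X : DRing.Cx A} {φ : Y ⟶ X},
    RangeI I n φ → RangeI I n ((konR fs).map φ)
  | [], _, _, _, h => h
  | f :: r, _, _, _, h => RangeI.konR r (h.cone f)

lemma finite_konR : ∀ (fs : List A) (X : DRing.Cx A), (∀ p, Module.Finite A (X.X p)) →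
    ∀ p, Module.Finite A (((konR fs).obj X).X p)
  | [], _, h => h
  | f :: r, X, h => finite_konR r _ fun p => by
    haveI := h p
    haveI := h (p + 1)
    refine Module.Finite.of_surjective
      (((mappingCone.inl (f • 𝟙 X)).v (p + 1) p (by omega)).hom.coprod ((mappingCone.inr (f • 𝟙 X)).f p).hom)
      fun y => ⟨((mappingCone.fst (f • 𝟙 X)).1.v p (p + 1) rfl y, (mappingCone.snd (f • 𝟙 X)).v p p (add_zero p) y), ?_⟩
    exact ConcreteCategory.congr_hom (mappingCone.id_X (f • 𝟙 X) p (p + 1) rfl) y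

/-- The system `n ↦ I^n M`. -/
noncomputable def powSys (I : Ideal A) (M : ModuleCat.{u} A) : ℕᵒᵖ ⥤ ModuleCat.{u} A where
  obj n := ModuleCat.of A ↥(I ^ n.unop • (⊤ : Submodule A M))
  map g := ModuleCat.ofHom (Submodule.inclusion (Submodule.smul_mono (Ideal.pow_le_pow_right (leOfHom g.unop)) le_rfl))

/-- The inclusion `I^n M → M`. -/
noncomputable def powIncl (I : Ideal A) (M : ModuleCat.{u} A) (n : ℕ) : (powSys I M).obj (op n) ⟶ M :=
  ModuleCat.ofHom (I ^ n • (⊤ : Submodule A M)).subtype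

lemma rangeI_single (I : Ideal A) (M : ModuleCat.{u} A) (n : ℕ) :
    RangeI I n ((HomologicalComplex.single (ModuleCat.{u} A) (ComplexShape.up ℤ) 0).map (powIncl I M n)) := by
  intro p
  by_cases hp : p = 0
  · subst hp
    let eM := (HomologicalComplex.singleObjXSelf (ComplexShape.up ℤ) 0 M).toLinearEquiv
    let eN := (HomologicalComplex.singleObjXSelf (ComplexShape.up ℤ) 0 ((powSys I M).obj (op n))).toLinearEquiv
    have he : ∀ x, ((HomologicalComplex.single (ModuleCat.{u} A) (ComplexShape.up ℤ) 0).map (powIncl I M n)).f 0 x =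
        eM.symm (powIncl I M n (eN x)) := fun x =>
      ConcreteCategory.congr_hom (HomologicalComplex.single_map_f_self (ComplexShape.up ℤ) (0 : ℤ) (powIncl I M n)) x
    refine ⟨fun x y hxy => ?_, le_antisymm ?_ fun z hz => ?_⟩
    · rw [he, he] at hxy
      exact eN.injective (Subtype.ext (eM.symm.injective hxy))
    · rintro _ ⟨x, rfl⟩
      exact (he x) ▸ mem_smul_top_of_mem eM.symm.toLinearMap (eN x).2
    · refine ⟨eN.symm ⟨eM z, mem_smul_top_of_mem eM.toLinearMap hz⟩, ?_⟩
      rw [he, LinearEquiv.apply_symm_apply]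
      exact eM.symm_apply_apply z
  · haveI h1 := ModuleCat.subsingleton_of_isZero
      (HomologicalComplex.isZero_single_obj_X (ComplexShape.up ℤ) 0 ((powSys I M).obj (op n)) p hp)
    haveI h2 := ModuleCat.subsingleton_of_isZero (HomologicalComplex.isZero_single_obj_X (ComplexShape.up ℤ) 0 M p hp)
    exact ⟨fun x y _ => Subsingleton.elim _ _, Subsingleton.elim _ _⟩

/-- Pro-zero homology of the cones on `I^n M`. -/
theorem pz_powSys [IsNoetherianRing A] {I : Ideal A} (M : ModuleCat.{u} A) [Module.Finite A M]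
    (fs : List A) (hfs : Ideal.span {x : A | x ∈ fs} = I) (a : ℤ) :
    PZ (((powSys I M ⋙ HomologicalComplex.single (ModuleCat.{u} A) (ComplexShape.up ℤ) 0) ⋙
      CategoryTheory.shiftFunctor (DRing.Cx A) a) ⋙ konR fs) := by
  let S := HomologicalComplex.single (ModuleCat.{u} A) (ComplexShape.up ℤ) 0
  let X0 : DRing.Cx A := (CategoryTheory.shiftFunctor (DRing.Cx A) a).obj (S.obj M)
  let X : DRing.Cx A := (konR fs).obj X0
  have hfin : ∀ p, Module.Finite A (X.X p) := finite_konR fs X0 fun p => by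
    show Module.Finite A ((S.obj M).X (p + a))
    by_cases hp : p + a = 0
    · rw [hp]
      exact Module.Finite.equiv (HomologicalComplex.singleObjXSelf (ComplexShape.up ℤ) 0 M).toLinearEquiv.symm
    · haveI := ModuleCat.subsingleton_of_isZero (HomologicalComplex.isZero_single_obj_X (ComplexShape.up ℤ) 0 M _ hp)
      exact Module.Finite.of_finite
  intro n q
  haveI := hfin q
  let Zs : Submodule A (X.X q) := LinearMap.ker (X.d q (q + 1)).hom
  let B : Submodule A (X.X q) := LinearMap.range (X.d (q - 1) q).hom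
  have hIB : I • Zs ≤ B := by
    refine Submodule.smul_le.2 fun t ht z hz => ?_
    rw [← hfs] at ht
    suffices Ideal.span {x : A | x ∈ fs} ≤ B.comap (LinearMap.toSpanSingleton A _ z) from this ht
    refine Ideal.span_le.2 fun g hg => ?_
    obtain ⟨h⟩ := exists_homotopy_konR fs X0 (Or.inl hg : g ∈ fs ∨ _)
    have hc := h.comm q
    change (g • 𝟙 X : X ⟶ X).f q = _ at hc
    rw [dNext_eq _ (show (ComplexShape.up ℤ).Rel q (q + 1) from rfl),
      prevD_eq _ (show (ComplexShape.up ℤ).Rel (q - 1) q from by simp), HomologicalComplex.zero_f, add_zero] at hc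
    have hz' := ConcreteCategory.congr_hom hc z
    refine ⟨h.hom q (q - 1) z, ?_⟩
    have hdz : (X.d q (q + 1)).hom z = 0 := hz
    have h1 : (h.hom (q + 1) q).hom ((X.d q (q + 1)).hom z) + (X.d (q - 1) q).hom ((h.hom q (q - 1)).hom z) =
        g • z := hz'.symm
    refine Eq.trans ?_ h1
    exact (add_eq_right.2 ((congrArg (h.hom (q + 1) q).hom hdz).trans (map_zero _))).symm
  obtain ⟨k, hk⟩ := Ideal.exists_pow_inf_eq_pow_smul I Zs
  refine ⟨n + 1 + k, by omega, ModuleCat.hom_ext (LinearMap.ext fun c => ?_)⟩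
  let φ : ∀ l : ℕ, ((((powSys I M ⋙ S) ⋙ CategoryTheory.shiftFunctor (DRing.Cx A) a) ⋙ konR fs).obj (op l)) ⟶ X :=
    fun l => (konR fs).map ((CategoryTheory.shiftFunctor (DRing.Cx A) a).map (S.map (powIncl I M l)))
  have hφ : ∀ l, RangeI I l (φ l) := fun l => RangeI.konR fs (RangeI.shift (rangeI_single I M l) a)
  let G := ((powSys I M ⋙ S) ⋙ CategoryTheory.shiftFunctor (DRing.Cx A) a) ⋙ konR fs
  have hcomp : ∀ {i j : ℕ} (h : i ≤ j), tr G h ≫ φ i = φ j := fun {i j} h => by
    show (konR fs).map _ ≫ (konR fs).map _ = (konR fs).map _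
    rw [← Functor.map_comp]
    refine congrArg (konR fs).map ?_
    show (CategoryTheory.shiftFunctor (DRing.Cx A) a).map _ ≫ (CategoryTheory.shiftFunctor (DRing.Cx A) a).map _ = _
    rw [← Functor.map_comp]
    refine congrArg (CategoryTheory.shiftFunctor (DRing.Cx A) a).map ?_
    show S.map _ ≫ S.map _ = S.map _
    rw [← Functor.map_comp]
    exact congrArg S.map (ModuleCat.hom_ext (LinearMap.ext fun _ => rfl))
  obtain ⟨z, rfl⟩ := exists_cycle_rep (G.obj (op (n + 1 + k))) q c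
  let w := (φ (n + 1 + k)).f q ((G.obj (op (n + 1 + k))).iCycles q z)
  have hw1 : w ∈ I ^ (n + 1 + k) • (⊤ : Submodule A (X.X q)) := (hφ (n + 1 + k) q).2.le ⟨_, rfl⟩
  have hw2 : w ∈ Zs := by
    have hc := ConcreteCategory.congr_hom ((φ (n + 1 + k)).comm q (q + 1)) ((G.obj (op (n + 1 + k))).iCycles q z)
    simp only [ConcreteCategory.comp_apply] at hc
    rw [LinearMap.mem_ker]
    refine hc.trans ?_
    rw [← ConcreteCategory.comp_apply (f := (G.obj (op (n + 1 + k))).iCycles q), HomologicalComplex.iCycles_d]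
    exact map_zero _
  have h3 : w ∈ I ^ n • B := by
    have h4 : w ∈ I ^ (n + 1 + k - k) • (I ^ k • ⊤ ⊓ Zs) := (hk (n + 1 + k) (by omega)).le ⟨hw1, hw2⟩
    rw [Nat.add_sub_cancel, pow_succ, Submodule.mul_smul] at h4
    exact Submodule.smul_mono le_rfl ((Submodule.smul_mono le_rfl inf_le_right).trans hIB) h4
  obtain ⟨y, hy, hy'⟩ : w ∈ Submodule.map (X.d (q - 1) q).hom (I ^ n • ⊤) := by
    rw [Submodule.map_smul'', Submodule.map_top]
    exact h3
  obtain ⟨y', rfl⟩ := (hφ n (q - 1)).2.ge hy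
  refine (ConcreteCategory.congr_hom (HomologicalComplex.homologyπ_naturality (tr G (by omega : n ≤ n + 1 + k)) q) z).trans ?_
  refine homologyπ_eq_zero _ q _ y' ((hφ n q).1 ?_)
  have hc := ConcreteCategory.congr_hom ((φ n).comm (q - 1) q) y'
  simp only [ConcreteCategory.comp_apply] at hc
  refine hc.symm.trans (hy'.trans ?_)
  show (φ (n + 1 + k)).f q _ = (φ n).f q _
  rw [← hcomp (by omega : n ≤ n + 1 + k), HomologicalComplex.comp_f]
  exact congrArg ((φ n).f q) (ConcreteCategory.congr_hom (HomologicalComplex.cyclesMap_i (tr G (by omega : n ≤ n + 1 + k)) q) z).symm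

end Groth.Agent.RGammaD
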