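import Groth.Agent.RGammaD.Basic

/-! For a Noetherian ring, `RΓ_I` is right adjoint to the inclusion of objects with torsion cohomology. -/

set_option autoImplicit false
set_option linter.style.haveILetI false

universe u

open CategoryTheory CategoryTheory.Limits CategoryTheory.Pretriangulated

attribute [local instance] HasDerivedCategory.standard

namespace Groth.Agent.RGammaD

open Groth.Agent.H9Misc Groth.Agent.H9Misc.ExtCechTors

variable {A : Type u} [CommRing A]

lemma torsionSub_anti {a b : Ideal A} (h : b ≤ a) (M : Type u) [AddCommGroup M] [Module A M] :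
    DRing.torsionSub a M ≤ DRing.torsionSub b M := fun _ ⟨n, hn⟩ =>
  ⟨n, fun c hc => hn c (Ideal.pow_right_mono h n hc)⟩

lemma mem_torsionSub_sup {a b : Ideal A} {M : Type u} [AddCommGroup M] [Module A M] {x : M}
    (ha : x ∈ DRing.torsionSub a M) (hb : x ∈ DRing.torsionSub b M) : x ∈ DRing.torsionSub (a ⊔ b) M := by
  obtain ⟨m, hm⟩ := ha
  obtain ⟨n, hn⟩ := hb
  refine ⟨m + n, fun c hc => ?_⟩
  obtain ⟨p, hp, q, hq, rfl⟩ := Submodule.mem_sup.1 (Ideal.sup_pow_add_le_pow_sup_pow hc)
  rw [add_smul, hm p hp, hn q hq, add_zero]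

lemma injective_gam [IsNoetherianRing A] (a : Ideal A) (E : ModuleCat.{u} A) [Injective E] :
    Module.Injective A (DRing.torsionSub a E) := by
  haveI : Module.Injective A E := Module.injective_module_of_injective_object (R := A) (M := E)
  rw [Groth.Agent.LC.torsionSub_eq_iSup]
  exact Groth.Agent.LC.injective_torsion a

/-- `Γ_a J → Γ_b J` for `b ≤ a`. -/
noncomputable def inclLE {a b : Ideal A} (h : b ≤ a) (J : DRing.Cx A) : (gam a).obj J ⟶ (gam b).obj J where
  f n := ModuleCat.ofHom (Submodule.inclusion (torsionSub_anti h (J.X n)))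
  comm' _ _ _ := ModuleCat.hom_ext (LinearMap.ext fun _ => Subtype.ext rfl)

lemma inclLE_incl {a b : Ideal A} (h : b ≤ a) (J : DRing.Cx A) :
    inclLE h J ≫ incl b J = incl a J := rfl

lemma inclLE_comp {a b c : Ideal A} (h : b ≤ a) (h' : c ≤ b) (J : DRing.Cx A) :
    inclLE h J ≫ inclLE h' J = inclLE (h'.trans h) J := rfl

lemma inclLE_unit_eq_zero (a : Ideal A) (f : A) (J : DRing.Cx A) :
    inclLE (le_sup_left : a ≤ a ⊔ Ideal.span {f}) J ≫
      DerCA.locCxUnit (Submonoid.powers f) ((gam a).obj J) = 0 := by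
  refine HomologicalComplex.hom_ext _ _ fun n => ModuleCat.hom_ext (LinearMap.ext fun x => ?_)
  obtain ⟨k, hk⟩ := x.2
  show LocalizedModule.mkLinearMap (Submonoid.powers f) (DRing.torsionSub a (J.X n))
    (Submodule.inclusion (torsionSub_anti le_sup_left (J.X n)) x) = 0
  refine (IsLocalizedModule.eq_zero_iff (Submonoid.powers f) _).2 ⟨⟨f ^ k, k, rfl⟩, Subtype.ext ?_⟩
  exact hk _ (Ideal.pow_mem_pow (Ideal.mem_sup_right (Ideal.mem_span_singleton_self f)) k)

/-- `0 → Γ_{a+(f)} J → Γ_a J → (Γ_a J)_f → 0`. -/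
noncomputable def stepSeq (a : Ideal A) (f : A) (J : DRing.Cx A) : ShortComplex (DRing.Cx A) :=
  ShortComplex.mk _ _ (inclLE_unit_eq_zero a f J)

lemma stepSeq_shortExact [IsNoetherianRing A] (a : Ideal A) (f : A) (J : DRing.Cx A)
    (hJ : ∀ n, Injective (J.X n)) : (stepSeq a f J).ShortExact := by
  refine HomologicalComplex.shortExact_of_degreewise_shortExact _ fun n => ?_
  refine
    { exact := (ShortComplex.moduleCat_exact_iff _).2 fun x hx => ?_
      mono_f := (ModuleCat.mono_iff_injective _).2 (Submodule.inclusion_injective (torsionSub_anti le_sup_left (J.X n)))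
      epi_g := (ModuleCat.epi_iff_surjective _).2 ?_ }
  · obtain ⟨⟨_, k, rfl⟩, hk⟩ := (IsLocalizedModule.eq_zero_iff (Submonoid.powers f)
      (LocalizedModule.mkLinearMap (Submonoid.powers f) (DRing.torsionSub a (J.X n)))).1 hx
    refine ⟨(⟨(x : DRing.torsionSub a (J.X n)).1, mem_torsionSub_sup (x : DRing.torsionSub a (J.X n)).2 ⟨k, fun c hc => ?_⟩⟩ :
      DRing.torsionSub (a ⊔ Ideal.span {f}) (J.X n)), Subtype.ext rfl⟩
    rw [Ideal.span_singleton_pow, Ideal.mem_span_singleton'] at hc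
    obtain ⟨d, rfl⟩ := hc
    rw [mul_smul]
    exact (congrArg (d • ·) (congrArg Subtype.val hk)).trans (smul_zero _)
  · haveI := hJ n
    haveI := injective_gam a (J.X n)
    exact Groth.Agent.LC.surjective_mkLinearMap_of_injective (DRing.torsionSub a (J.X n)) f

lemma bijective_step [IsNoetherianRing A] {I : Ideal A} {T : Dual.D A} (hT : TorsD I T) (a : Ideal A)
    {f : A} (hf : f ∈ I) (J : DRing.Cx A) (hJ : ∀ n, Injective (J.X n)) :
    Function.Bijective (fun φ : T ⟶ DerivedCategory.Q.obj ((gam (a ⊔ Ideal.span {f})).obj J) =>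
      φ ≫ DerivedCategory.Q.map (inclLE le_sup_left J)) := by
  have hS := stepSeq_shortExact a f J hJ
  have hTd := DerivedCategory.triangleOfSES_distinguished hS
  have hW := loc_locCx f ((gam a).obj J)
  refine ⟨fun x y h => sub_eq_zero.1 ?_, fun y => ?_⟩
  · obtain ⟨k, hk⟩ := Triangle.coyoneda_exact₂ _ (inv_rot_of_distTriang _ hTd) (x - y)
      (show (x - y) ≫ DerivedCategory.Q.map (inclLE le_sup_left J) = 0 by
        rw [Preadditive.sub_comp, sub_eq_zero]; exact h)
    rw [hk, hom_eq_zero_of_torsD I hT hf (hW.shift f (-1)) k]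
    exact zero_comp
  · obtain ⟨k, hk⟩ := Triangle.coyoneda_exact₂ _ hTd y (hom_eq_zero_of_torsD I hT hf hW _)
    exact ⟨k, hk.symm⟩

lemma bijective_of_span [IsNoetherianRing A] {I : Ideal A} {T : Dual.D A} (hT : TorsD I T)
    (J : DRing.Cx A) (hJ : ∀ n, Injective (J.X n)) :
    ∀ (s : Finset A), (∀ f ∈ s, f ∈ I) → ∀ (a : Ideal A), Ideal.span (s : Set A) = a →
      Function.Bijective (fun φ : T ⟶ DerivedCategory.Q.obj ((gam a).obj J) =>
        φ ≫ DerivedCategory.Q.map (incl a J)) := by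
  classical
  intro s
  induction s using Finset.induction_on with
  | empty =>
    intro _ a ha
    rw [Finset.coe_empty, Ideal.span_empty] at ha
    subst ha
    haveI : ∀ n, IsIso ((incl (⊥ : Ideal A) J).f n) := fun n =>
      (ConcreteCategory.isIso_iff_bijective _).2 ⟨Subtype.val_injective, fun x => ⟨⟨x, 1, fun c hc => by
        rw [pow_one, Ideal.mem_bot] at hc
        rw [hc, zero_smul]⟩, rfl⟩⟩
    haveI := HomologicalComplex.Hom.isIso_of_components (incl (⊥ : Ideal A) J)
    exact (asIso (DerivedCategory.Q.map (incl (⊥ : Ideal A) J))).homToEquiv.bijective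
  | insert f s hfs ih =>
    intro hs a ha
    have ha' : Ideal.span (s : Set A) ⊔ Ideal.span {f} = a := by
      rw [← ha, Finset.coe_insert, Ideal.span_insert, sup_comm]
    subst ha'
    have h1 := bijective_step hT (Ideal.span (s : Set A)) (hs f (Finset.mem_insert_self f s)) J hJ
    have h2 := ih (fun g hg => hs g (Finset.mem_insert_of_mem hg)) _ rfl
    convert h2.comp h1 using 1
    funext φ
    exact ((Category.assoc _ _ _).trans (congrArg (φ ≫ ·)
      ((DerivedCategory.Q.map_comp _ _).symm.trans (congrArg DerivedCategory.Q.map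
        (inclLE_incl le_sup_left J))))).symm

section

variable (I : Ideal A) [DRing.HasRgammaI I]

/-- `RΓ_I K` has torsion cohomology. -/
theorem torsD_RgammaI (K : Dual.D A) : TorsD I ((DRing.RgammaI I).obj K) := by
  obtain ⟨J, hJ, -, ⟨eJ⟩⟩ := DRingRHomCompl.exists_resolution K
  obtain ⟨e, -⟩ := exists_iso_gam I J
  exact TorsD.of_iso I (torsD_gam I J) (e ≪≫ (DRing.RgammaI I).mapIso eJ.symm)

/-- The universal property of `RΓ_I`. -/
theorem bijective_comp_ε [IsNoetherianRing A] {T : Dual.D A} (hT : TorsD I T) (K : Dual.D A) :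
    Function.Bijective (fun φ : T ⟶ (DRing.RgammaI I).obj K => φ ≫ (DRing.RgammaIε I).app K) := by
  obtain ⟨J, hJ, hinj, ⟨eJ⟩⟩ := DRingRHomCompl.exists_resolution K
  obtain ⟨e, he⟩ := exists_iso_gam I J
  obtain ⟨s, hs⟩ := IsNoetherian.noetherian I
  have h := bijective_of_span hT J hinj s (fun f hf => hs ▸ Ideal.subset_span hf) I hs
  let α := (DRing.RgammaI I).mapIso eJ ≪≫ e.symm
  have hα : ∀ φ : T ⟶ (DRing.RgammaI I).obj K, φ ≫ (DRing.RgammaIε I).app K =
      ((φ ≫ α.hom) ≫ DerivedCategory.Q.map (incl I J)) ≫ eJ.inv := fun φ => by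
    have hn := (DRing.RgammaIε I).naturality eJ.hom
    simp only [Functor.id_map] at hn
    simp only [α, Iso.trans_hom, Functor.mapIso_hom, Iso.symm_hom, ← he, Category.assoc,
      Iso.inv_hom_id_assoc]
    rw [reassoc_of% hn, Iso.hom_inv_id, Category.comp_id]
  rw [funext hα]
  exact eJ.symm.homToEquiv.bijective.comp (h.comp α.homToEquiv.bijective)

/-- `RΓ_I K → K` is an isomorphism for torsion `K`. -/
theorem isIso_ε [IsNoetherianRing A] {K : Dual.D A} (hK : TorsD I K) :
    IsIso ((DRing.RgammaIε I).app K) := by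
  obtain ⟨s, hs⟩ := (bijective_comp_ε I hK K).2 (𝟙 K)
  refine ⟨s, (bijective_comp_ε I (torsD_RgammaI I K) K).1 ?_, hs⟩
  exact ((Category.assoc _ _ _).trans (congrArg (_ ≫ ·) hs)).trans
    ((Category.comp_id _).trans (Category.id_comp _).symm)

/-- An object with the universal property is `RΓ_I K`. -/
theorem exists_iso_of_universal [IsNoetherianRing A] {T K : Dual.D A} (hT : TorsD I T) (ε : T ⟶ K)
    (h : ∀ T' : Dual.D A, TorsD I T' → Function.Bijective (fun φ : T' ⟶ T => φ ≫ ε)) :
    ∃ e : T ≅ (DRing.RgammaI I).obj K, e.hom ≫ (DRing.RgammaIε I).app K = ε := by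
  obtain ⟨a, ha⟩ := (bijective_comp_ε I hT K).2 ε
  obtain ⟨b, hb⟩ := (h _ (torsD_RgammaI I K)).2 ((DRing.RgammaIε I).app K)
  refine ⟨⟨a, b, (h T hT).1 ?_, (bijective_comp_ε I (torsD_RgammaI I K) K).1 ?_⟩, ha⟩
  · exact ((Category.assoc _ _ _).trans (congrArg (a ≫ ·) hb)).trans (ha.trans (Category.id_comp _).symm)
  · exact ((Category.assoc _ _ _).trans (congrArg (b ≫ ·) ha)).trans (hb.trans (Category.id_comp _).symm)

end

end Groth.Agent.RGammaD
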