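import Groth.Agent.RGammaD.Rlim
import Groth.Agent.RGammaD.Univ
import Groth.Agent.LC.ExtCechZero

/-! The extended Čech complex is `RΓ_J`; completion of `RΓ_J M` along `I`. -/

set_option autoImplicit false
set_option linter.style.haveILetI false
set_option backward.isDefEq.respectTransparency false
set_option backward.isDefEq.respectTransparency.types false

universe u

open CategoryTheory CategoryTheory.Limits CategoryTheory.Pretriangulated CochainComplex Opposite

attribute [local instance] HasDerivedCategory.standard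

namespace Groth.Agent.RGammaD

open Groth.Agent.H9Misc Groth.Agent.H9Misc.ExtCechTors

variable {A : Type u} [CommRing A]

/-- `Q Č(N) ⟶ N[0]`. -/
noncomputable def cechQ (gs : List A) :
    cechF gs ⋙ DerivedCategory.Q ⟶ DerivedCategory.singleFunctor (ModuleCat.{u} A) 0 :=
  Functor.whiskerRight (cechToSingle gs) DerivedCategory.Q ≫
    (DerivedCategory.singleFunctorIsoCompQ (ModuleCat.{u} A) 0).inv

theorem bijective_cechQ {J : Ideal A} {T : Dual.D A} (hT : TorsD J T) (N : ModuleCat.{u} A) :
    ∀ gs : List A, (∀ g ∈ gs, g ∈ J) → Function.Bijective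
      (fun φ : T ⟶ DerivedCategory.Q.obj (DerCA.extCech N gs) => φ ≫ DerivedCategory.Q.map ((cechToSingle gs).app N))
  | [], _ => by
    show Function.Bijective (fun φ : T ⟶ DerivedCategory.Q.obj ((HomologicalComplex.single _ _ 0).obj N) =>
      φ ≫ DerivedCategory.Q.map (𝟙 _))
    simp only [CategoryTheory.Functor.map_id, Category.comp_id]
    exact Function.bijective_id
  | g :: gs, h => by
    have ih := bijective_cechQ hT N gs fun f hf => h f (List.mem_cons_of_mem _ hf)
    let t := DerCA.locCxUnit (Submonoid.powers g) (DerCA.extCech N gs)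
    have hg := h g List.mem_cons_self
    have hT' := DerivedCategory.mappingCocone_triangle_distinguished t
    have hl := loc_locCx g (DerCA.extCech N gs)
    have hb : Function.Bijective (fun φ : T ⟶ DerivedCategory.Q.obj (mappingCocone t) =>
        φ ≫ DerivedCategory.Q.map (mappingCocone.fst t)) := by
      refine ⟨(injective_iff_map_eq_zero (Preadditive.rightComp T (DerivedCategory.Q.map (mappingCocone.fst t)))).2
        fun φ hφ => ?_, fun ψ => ?_⟩
      · obtain ⟨s, hs⟩ := Triangle.coyoneda_exact₂ _ (inv_rot_of_distTriang _ hT') φ hφ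
        rw [hs, hom_eq_zero_of_torsD J hT hg (hl.shift g (-1)) s, zero_comp]
      · obtain ⟨s, hs⟩ := Triangle.coyoneda_exact₂ _ hT' ψ (hom_eq_zero_of_torsD J hT hg hl _)
        exact ⟨s, hs.symm⟩
    have e : (fun φ : T ⟶ DerivedCategory.Q.obj (DerCA.extCech N (g :: gs)) =>
        φ ≫ DerivedCategory.Q.map ((cechToSingle (g :: gs)).app N)) =
        (fun ψ : T ⟶ DerivedCategory.Q.obj (DerCA.extCech N gs) => ψ ≫ DerivedCategory.Q.map ((cechToSingle gs).app N)) ∘
          (fun φ : T ⟶ DerivedCategory.Q.obj (mappingCocone t) => φ ≫ DerivedCategory.Q.map (mappingCocone.fst t)) :=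
      funext fun φ => (congrArg (φ ≫ ·) (DerivedCategory.Q.map_comp _ _)).trans (Category.assoc _ _ _).symm
    rw [e]
    exact ih.comp hb

lemma torsD_cech {J : Ideal A} (N : ModuleCat.{u} A) (gs : List A) (hgs : Ideal.span {x : A | x ∈ gs} = J) :
    TorsD J (DerivedCategory.Q.obj (DerCA.extCech N gs)) := fun q => by
  have hfg : J.FG := hgs ▸ Submodule.fg_span (List.finite_toSet gs)
  obtain ⟨e⟩ := hd_iso (DerCA.extCech N gs) q
  refine isPowerTorsion_of_iso J (isPowerTorsion_of_tors hfg fun f hf x => ?_) e.symm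
  suffices J ≤ Ideal.radical (LinearMap.ker (LinearMap.toSpanSingleton A _ x) : Ideal A) by
    obtain ⟨n, hn⟩ := this hf
    exact ⟨n, hn⟩
  rw [← hgs, Ideal.span_le]
  intro g hg
  obtain ⟨n, hn⟩ := tors_extCech N gs hg q x
  exact ⟨n, hn⟩

/-- The extended Čech complex is `RΓ_J`, compatibly with the maps to the identity. -/
theorem exists_cechIso [IsNoetherianRing A] (J : Ideal A) [DRing.HasRgammaI J] (gs : List A)
    (hgs : Ideal.span {x : A | x ∈ gs} = J) (N : ModuleCat.{u} A) :
    ∃ e : DerivedCategory.Q.obj (DerCA.extCech N gs) ≅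
        (DRing.RgammaI J).obj ((DerivedCategory.singleFunctor (ModuleCat.{u} A) 0).obj N),
      e.hom ≫ (DRing.RgammaIε J).app _ = (cechQ gs).app N :=
  exists_iso_of_universal J (torsD_cech N gs hgs) _ fun T hT => by
    have h := bijective_cechQ hT N gs fun g hg => hgs ▸ Ideal.subset_span hg
    have e : (fun φ : T ⟶ DerivedCategory.Q.obj (DerCA.extCech N gs) => φ ≫ (cechQ gs).app N) =
        ((DerivedCategory.singleFunctorIsoCompQ (ModuleCat.{u} A) 0).app N).symm.homToEquiv ∘
          (fun φ : T ⟶ DerivedCategory.Q.obj (DerCA.extCech N gs) =>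
            φ ≫ DerivedCategory.Q.map ((cechToSingle gs).app N)) :=
      funext fun φ => (Category.assoc _ _ _).symm
    exact e ▸ (Equiv.bijective _).comp h

lemma cechIso_naturality [IsNoetherianRing A] (J : Ideal A) [DRing.HasRgammaI J] (gs : List A)
    {M N : ModuleCat.{u} A} (a : M ⟶ N)
    (eM : DerivedCategory.Q.obj (DerCA.extCech M gs) ≅
        (DRing.RgammaI J).obj ((DerivedCategory.singleFunctor (ModuleCat.{u} A) 0).obj M))
    (eN : DerivedCategory.Q.obj (DerCA.extCech N gs) ≅
        (DRing.RgammaI J).obj ((DerivedCategory.singleFunctor (ModuleCat.{u} A) 0).obj N))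
    (hM : eM.hom ≫ (DRing.RgammaIε J).app _ = (cechQ gs).app M)
    (hN : eN.hom ≫ (DRing.RgammaIε J).app _ = (cechQ gs).app N) :
    DerivedCategory.Q.map ((cechF gs).map a) ≫ eN.hom =
      eM.hom ≫ (DRing.RgammaI J).map ((DerivedCategory.singleFunctor (ModuleCat.{u} A) 0).map a) := by
  have hT : TorsD J (DerivedCategory.Q.obj (DerCA.extCech M gs)) :=
    TorsD.of_iso J (torsD_RgammaI J _) eM.symm
  refine (bijective_comp_ε J hT _).1 ?_
  have hn := (DRing.RgammaIε J).naturality ((DerivedCategory.singleFunctor (ModuleCat.{u} A) 0).map a)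
  simp only [Functor.id_map] at hn
  refine ((Category.assoc _ _ _).trans (congrArg (_ ≫ ·) hN)).trans ?_
  refine ((cechQ gs).naturality a).trans ?_
  refine Eq.trans ?_ ((congrArg (eM.hom ≫ ·) hn.symm).trans (Category.assoc _ _ _).symm)
  exact (congrArg (· ≫ _) hM.symm).trans (Category.assoc _ _ _)

/-! ### The systems of quotients -/

/-- `n ↦ M/I^n M`. -/
noncomputable def quotSys (I : Ideal A) (M : ModuleCat.{u} A) : ℕᵒᵖ ⥤ ModuleCat.{u} A where
  obj n := ModuleCat.of A (M ⧸ (I ^ n.unop • ⊤ : Submodule A M))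
  map g := ModuleCat.ofHom (Submodule.mapQ _ _ LinearMap.id
    (Submodule.smul_mono (Ideal.pow_le_pow_right (leOfHom g.unop)) le_rfl))
  map_id n := by ext; rfl
  map_comp f g := by ext; rfl

/-- `I^n M ⟶ M`, as a map of systems. -/
noncomputable def powNat (I : Ideal A) (M : ModuleCat.{u} A) : powSys I M ⟶ (Functor.const ℕᵒᵖ).obj M where
  app n := powIncl I M n.unop
  naturality n m g := by ext; rfl

/-- `M ⟶ M/I^n M`, as a map of systems. -/
noncomputable def quotNat (I : Ideal A) (M : ModuleCat.{u} A) : (Functor.const ℕᵒᵖ).obj M ⟶ quotSys I M where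
  app n := ModuleCat.ofHom (Submodule.mkQ _)
  naturality n m g := by ext; rfl

lemma shortExact_powQuot (I : Ideal A) (M : ModuleCat.{u} A) (n : ℕ) :
    ∃ w, (ShortComplex.mk ((powNat I M).app (op n)) ((quotNat I M).app (op n)) w).ShortExact := by
  have w : (powNat I M).app (op n) ≫ (quotNat I M).app (op n) = 0 := by
    ext x
    exact (Submodule.Quotient.mk_eq_zero _).2 x.2
  exact ⟨w, H1CechLC.mk_shortExact _ _ w (fun x y h => Subtype.ext h) (Submodule.mkQ_surjective _)
    fun b hb => ⟨⟨b, (Submodule.Quotient.mk_eq_zero _).1 hb⟩, rfl⟩⟩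

/-- The constant system has fibre `K`. -/
theorem exists_fibConst (gs : List A) (M : ModuleCat.{u} A) :
    ∃ e : DerivedCategory.Q.obj (DerCA.extCech M gs) ≅
        DerivedCategory.Q.obj (fib ((Functor.const ℕᵒᵖ).obj M ⋙ cechF gs)),
      ∀ n, e.hom ≫ DerivedCategory.Q.map (mappingCocone.fst (dif ((Functor.const ℕᵒᵖ).obj M ⋙ cechF gs)) ≫
        Pi.π (terms ((Functor.const ℕᵒᵖ).obj M ⋙ cechF gs)) n) = DerivedCategory.Q.map (𝟙 (DerCA.extCech M gs)) := by
  let Y : Sys A := (Functor.const ℕᵒᵖ).obj M ⋙ cechF gs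
  let K := DerCA.extCech M gs
  have htr : ∀ n, tr Y (Nat.le_succ n) = 𝟙 _ := fun n => (cechF gs).map_id M
  let d : K ⟶ ∏ᶜ terms Y := Pi.lift fun _ => 𝟙 K
  have hd : ∀ n, d ≫ Pi.π (terms Y) n = 𝟙 K := fun n => Pi.lift_π _ n
  have w : d ≫ dif Y = 0 := by
    refine Limits.Pi.hom_ext _ _ fun n => ?_
    rw [Category.assoc, dif_π, htr, Category.comp_id, Preadditive.comp_sub, hd, hd, sub_self, zero_comp]
  have hS : (ShortComplex.mk d (dif Y) w).ShortExact := by
    refine HomologicalComplex.shortExact_of_degreewise_shortExact _ fun p => ?_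
    have e1 : ∀ n x, (Pi.π (terms Y) n).f p (d.f p x) = x := fun n x =>
      ConcreteCategory.congr_hom (HomologicalComplex.congr_hom (hd n) p) x
    let pr : ℕ → (∏ᶜ terms Y).X p → K.X p := fun n x => (Pi.π (terms Y) n).f p x
    have e2 : ∀ n x, pr n ((dif Y).f p x) = pr n x - pr (n + 1) x := fun n x => by
      have h := dif_π Y n
      rw [htr, Category.comp_id] at h
      exact ConcreteCategory.congr_hom (HomologicalComplex.congr_hom h p) x
    refine H1CechLC.mk_shortExact _ _ _ ?_ ?_ ?_
    · intro x y hxy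
      exact (e1 0 x).symm.trans ((congrArg ((Pi.π (terms Y) 0).f p) hxy).trans (e1 0 y))
    · intro y
      obtain ⟨x, hx⟩ := exists_prod_elt (terms Y) p fun n => (-∑ j ∈ Finset.range n, pr j y : K.X p)
      have hx' : ∀ n, pr n x = -∑ j ∈ Finset.range n, pr j y := hx
      refine ⟨x, prod_ext _ p fun n => ?_⟩
      show pr n ((dif Y).f p x) = pr n y
      rw [e2, hx', hx', Finset.sum_range_succ]
      abel
    · intro y hy
      refine ⟨(Pi.π (terms Y) 0).f p y, prod_ext _ p fun n => (e1 n _).trans ?_⟩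
      induction n with
      | zero => rfl
      | succ n ih =>
        refine ih.trans (sub_eq_zero.1 ((e2 n y).symm.trans ?_))
        exact (congrArg ((Pi.π (terms Y) n).f p) hy).trans (map_zero _)
  have h1 := DerivedCategory.triangleOfSES_distinguished hS
  have h2 := DerivedCategory.mappingCocone_triangle_distinguished (dif Y)
  obtain ⟨a, ha, ha'⟩ := complete_distinguished_triangle_morphism₁ _ _ h1 h2 (𝟙 _) (𝟙 _)
    ((Category.comp_id _).trans (Category.id_comp _).symm)
  let ψ : DerivedCategory.triangleOfSES hS ⟶ DerivedCategory.Q.mapTriangle.obj (mappingCocone.triangle (dif Y)) :=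
    { hom₁ := a, hom₂ := 𝟙 _, hom₃ := 𝟙 _, comm₁ := ha, comm₂ := (Category.comp_id _).trans (Category.id_comp _).symm, comm₃ := ha' }
  haveI : IsIso a := isIso₁_of_isIso₂₃ ψ h1 h2 (inferInstanceAs (IsIso (𝟙 _))) (inferInstanceAs (IsIso (𝟙 _)))
  refine ⟨asIso a, fun n => ?_⟩
  have ha2 : a ≫ DerivedCategory.Q.map (mappingCocone.fst (dif Y)) = DerivedCategory.Q.map d :=
    ha.symm.trans (Category.comp_id _)
  refine (congrArg (a ≫ ·) (DerivedCategory.Q.map_comp _ _)).trans ((Category.assoc _ _ _).symm.trans ?_)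
  exact (congrArg (· ≫ _) ha2).trans ((DerivedCategory.Q.map_comp _ _).symm.trans (congrArg DerivedCategory.Q.map (hd n)))

/-- The constant system has fibre `K`. -/
theorem nonempty_fibConst (gs : List A) (M : ModuleCat.{u} A) :
    Nonempty (DerivedCategory.Q.obj (DerCA.extCech M gs) ≅
      DerivedCategory.Q.obj (fib ((Functor.const ℕᵒᵖ).obj M ⋙ cechF gs))) :=
  ⟨(exists_fibConst gs M).choose⟩

/-- Objects with the universal property are the completion. -/
lemma exists_iso_completion {I : Ideal A} [DRing.HasDerivedCompletion I] {K X : Dual.D A} (η : K ⟶ X)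
    (hX : DRing.IsDerivedComplete I X)
    (h : ∀ W : Dual.D A, DRing.IsDerivedComplete I W → Function.Bijective (fun φ : X ⟶ W => η ≫ φ)) :
    ∃ e : ((DRing.derivedCompletion I).obj K).obj ≅ X, DRing.toDerivedCompletion I K ≫ e.hom = η := by
  let u := DRing.toDerivedCompletion I K
  let Kh := (DRing.derivedCompletion I).obj K
  let adj := DRing.derivedCompletionAdj I
  have hu : ∀ (W : DRing.DComp I) (φ : Kh ⟶ W), adj.homEquiv K W φ = u ≫ φ.hom := fun W φ =>
    adj.homEquiv_unit K W φ
  obtain ⟨b, hb⟩ := (h Kh.obj Kh.property).2 u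
  let X' : DRing.DComp I := ⟨X, hX⟩
  let a : Kh ⟶ X' := (adj.homEquiv K X').symm η
  have ha : u ≫ a.hom = η := (hu X' a).symm.trans (Equiv.apply_symm_apply _ _)
  refine ⟨⟨a.hom, b, ?_, (h X hX).1 ?_⟩, ha⟩
  · have : a ≫ ObjectProperty.homMk b = 𝟙 Kh := (adj.homEquiv K Kh).injective (by
      rw [hu, hu]
      exact ((Category.assoc _ _ _).symm.trans ((congrArg (· ≫ b) ha).trans hb)).trans (Category.comp_id u).symm)
    exact congrArg InducedCategory.Hom.hom this
  · exact ((Category.assoc _ _ _).symm.trans ((congrArg (· ≫ a.hom) hb).trans ha)).trans (Category.comp_id η).symm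

lemma nonempty_iso_completion {I : Ideal A} [DRing.HasDerivedCompletion I] {K X : Dual.D A} (η : K ⟶ X)
    (hX : DRing.IsDerivedComplete I X)
    (h : ∀ W : Dual.D A, DRing.IsDerivedComplete I W → Function.Bijective (fun φ : X ⟶ W => η ≫ φ)) :
    Nonempty (((DRing.derivedCompletion I).obj K).obj ≅ X) :=
  ⟨(exists_iso_completion η hX h).choose⟩

/-! ### Termwise properties -/

lemma smul_loc_eq_zero {a : A} {X : ModuleCat.{u} A} (h : ∀ x : X, a • x = 0) (S : Submonoid A)
    (y : (DerCA.locFunctor S).obj X) : a • y = 0 := by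
  obtain ⟨⟨m, s⟩, rfl⟩ := IsLocalizedModule.mk'_surjective S (LocalizedModule.mkLinearMap S X) y
  show a • IsLocalizedModule.mk' (LocalizedModule.mkLinearMap S X) m s = 0
  rw [← IsLocalizedModule.mk'_smul, h m, IsLocalizedModule.mk'_zero]

/-- The terms of `Č(N)` are killed by what kills `N`. -/
lemma smul_extCech_eq_zero {a : A} {N : ModuleCat.{u} A} (h : ∀ x : N, a • x = 0) :
    ∀ (gs : List A) (p : ℤ) (x : (DerCA.extCech N gs).X p), a • x = 0
  | [], p, x => by
    change ((HomologicalComplex.single (ModuleCat.{u} A) (ComplexShape.up ℤ) 0).obj N).X p at x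
    show a • x = 0
    by_cases hp : p = 0
    · subst hp
      let e := (HomologicalComplex.singleObjXSelf (ComplexShape.up ℤ) 0 N).toLinearEquiv
      exact e.injective ((map_smul e a x).trans ((h (e x)).trans (map_zero e).symm))
    · exact (ModuleCat.subsingleton_of_isZero
        (HomologicalComplex.isZero_single_obj_X (ComplexShape.up ℤ) 0 N p hp)).elim _ _
  | g :: gs, p, x => by
    change (mappingCone (DerCA.locCxUnit (Submonoid.powers g) (DerCA.extCech N gs))).X (p + -1) at x
    show a • x = 0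
    refine H1CechLC.hom_ext_cone _ (p + -1) ?_ ?_
    · rw [map_smul, map_zero]
      exact smul_extCech_eq_zero h gs _ _
    · rw [map_smul, map_zero]
      exact smul_loc_eq_zero (smul_extCech_eq_zero h gs _) _ _

lemma smul_id_extCech_eq_zero {a : A} {N : ModuleCat.{u} A} (h : ∀ x : N, a • x = 0) (gs : List A) :
    a • 𝟙 (DerCA.extCech N gs) = 0 := by
  ext p x
  exact smul_extCech_eq_zero h gs p x

/-- The fibre vanishes in negative degrees. -/
lemma isZero_homology_fib {Y : Sys A} (h : ∀ n p, p < 0 → IsZero ((Y.obj (op n)).X p)) {p : ℤ} (hp : p < 0) :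
    IsZero ((fib Y).homology p) := by
  refine HomologicalComplex.ExactAt.isZero_homology
    ((HomologicalComplex.exactAt_iff _ _).2 (ShortComplex.exact_of_isZero_X₂ _ ?_))
  have hP : ∀ k, k < 0 → ∀ a b : (∏ᶜ terms Y).X k, a = b := fun k hk a b =>
    prod_ext _ k fun n => (ModuleCat.subsingleton_of_isZero (h n k hk)).elim _ _
  refine ModuleCat.isZero_iff_subsingleton.2 ⟨fun x y => ?_⟩
  change (mappingCone (dif Y)).X (p + -1) at x y
  show x = y
  exact H1CechLC.hom_ext_cone _ (p + -1) (hP _ (by omega) _ _) (hP _ (by omega) _ _)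

end Groth.Agent.RGammaD
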