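import Groth.Agent.RGammaD.CechUniv

/-! Degree zero cohomology of Čech complexes and of fibres. -/

set_option autoImplicit false
set_option linter.style.haveILetI false
set_option backward.isDefEq.respectTransparency false
set_option backward.isDefEq.respectTransparency.types false

universe u

open CategoryTheory CategoryTheory.Limits CategoryTheory.Pretriangulated CochainComplex Opposite

attribute [local instance] HasDerivedCategory.standard

namespace Groth.Agent.RGammaD

open Groth.Agent.H9Misc Groth.Agent.H9Misc.ExtCechTors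

variable {A : Type u} [CommRing A]

lemma mappingCocone_fst_f {K L : DRing.Cx A} (t : K ⟶ L) (p : ℤ) (x : (mappingCone t).X (p + -1)) :
    (mappingCocone.fst t).f p x = (mappingCone.fst t).1.v (p + -1) p (by omega) x := by
  simp [mappingCocone.fst]
  rw [HomComplex.Cochain.leftShift_v _ (-1) 0 _ p p _ (p + -1) (by omega)]
  simp
  rfl

/-- `Č(N) → N` is bijective in degree zero. -/
lemma bijective_cechToSingle_f0 (N : ModuleCat.{u} A) :
    ∀ gs : List A, Function.Bijective (((cechToSingle gs).app N).f 0)
  | [] => by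
    show Function.Bijective ((𝟙 ((HomologicalComplex.single (ModuleCat.{u} A) (ComplexShape.up ℤ) 0).obj N) :
      (HomologicalComplex.single (ModuleCat.{u} A) (ComplexShape.up ℤ) 0).obj N ⟶ _).f 0)
    exact Function.bijective_id
  | g :: gs => by
    let t := DerCA.locCxUnit (Submonoid.powers g) (DerCA.extCech N gs)
    haveI hsub : Subsingleton (((DerCA.locCx (Submonoid.powers g)).obj (DerCA.extCech N gs)).X (-1)) :=
      ModuleCat.subsingleton_of_isZero (Functor.map_isZero (DerCA.locFunctor (Submonoid.powers g))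
        (Groth.Agent.LC.ExtCech.isZero_extCech_X_neg N gs (-1) (by omega)))
    have hb : Function.Bijective ((mappingCocone.fst t).f 0) := by
      have e : ((mappingCocone.fst t).f 0 : (mappingCone t).X (-1) → (DerCA.extCech N gs).X 0) =
          fun x => (mappingCone.fst t).1.v (-1) 0 rfl x := funext fun x => mappingCocone_fst_f t 0 x
      show Function.Bijective ((mappingCocone.fst t).f 0 : (mappingCone t).X (-1) → (DerCA.extCech N gs).X 0)
      rw [e]
      refine ⟨fun x y h => H1CechLC.hom_ext_cone t (-1) h (hsub.elim _ _), fun k => ?_⟩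
      obtain ⟨x, hx, -⟩ := H1CechLC.exists_cone_elt t (-1) (show (DerCA.extCech N gs).X ((-1 : ℤ) + 1) from k) 0
      exact ⟨x, hx⟩
    show Function.Bijective ((mappingCocone.fst t ≫ (cechToSingle gs).app N).f 0)
    exact (bijective_cechToSingle_f0 N gs).comp hb

lemma injective_homologyπ_zero {K : DRing.Cx A} (h : IsZero (K.X (-1))) :
    Function.Injective (K.homologyπ 0) := by
  refine (injective_iff_map_eq_zero (K.homologyπ 0).hom).2 fun z hz => ?_
  obtain ⟨y, hy⟩ := exists_of_homologyπ_eq_zero K 0 z hz
  refine (ModuleCat.mono_iff_injective (K.iCycles 0)).1 inferInstance ?_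
  haveI : Subsingleton (K.X (0 - 1)) := ModuleCat.subsingleton_of_isZero (show IsZero (K.X (0 - 1)) from h)
  rw [map_zero, ← hy, show y = 0 from Subsingleton.elim _ _, map_zero]

/-- `H⁰ Č(N) → N` is injective, with range the elements killed by a power of each entry. -/
theorem homologyMap_cechToSingle_zero (N : ModuleCat.{u} A) (gs : List A) :
    Function.Injective (HomologicalComplex.homologyMap ((cechToSingle gs).app N) 0) ∧
      ∀ y, (∀ g ∈ gs, ∃ k : ℕ, g ^ k • y = 0) →
        ∃ x, HomologicalComplex.homologyMap ((cechToSingle gs).app N) 0 x = y := by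
  let S := (HomologicalComplex.single (ModuleCat.{u} A) (ComplexShape.up ℤ) 0).obj N
  let C := DerCA.extCech N gs
  let σ : C ⟶ S := (cechToSingle gs).app N
  have hσ := bijective_cechToSingle_f0 N gs
  have hSπ : Function.Injective (S.homologyπ 0) :=
    injective_homologyπ_zero (HomologicalComplex.isZero_single_obj_X (ComplexShape.up ℤ) 0 N (-1) (by omega))
  have hnat : ∀ z, HomologicalComplex.homologyMap σ 0 (C.homologyπ 0 z) =
      S.homologyπ 0 (HomologicalComplex.cyclesMap σ 0 z) := fun z =>
    ConcreteCategory.congr_hom (HomologicalComplex.homologyπ_naturality σ 0) z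
  have hi : ∀ z, S.iCycles 0 (HomologicalComplex.cyclesMap σ 0 z) = σ.f 0 (C.iCycles 0 z) := fun z =>
    ConcreteCategory.congr_hom (HomologicalComplex.cyclesMap_i σ 0) z
  constructor
  · refine (injective_iff_map_eq_zero (HomologicalComplex.homologyMap σ 0).hom).2 fun x hx => ?_
    obtain ⟨z, rfl⟩ := exists_cycle_rep C 0 x
    have h0 : HomologicalComplex.cyclesMap σ 0 z = 0 := hSπ ((hnat z).symm.trans (hx.trans (map_zero _).symm))
    have h1 : C.iCycles 0 z = 0 := hσ.1 (by
      refine (hi z).symm.trans ?_
      rw [h0, map_zero, map_zero])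
    have h2 : z = 0 := (ModuleCat.mono_iff_injective (C.iCycles 0)).1 inferInstance (h1.trans (map_zero _).symm)
    rw [h2, map_zero]
  · intro y hy
    obtain ⟨z, rfl⟩ := exists_cycle_rep S 0 y
    obtain ⟨x, hx⟩ := hσ.2 (S.iCycles 0 z)
    obtain ⟨e, he⟩ := Groth.Agent.LC.ExtCech.exists_X0_iso N gs
    have hd : C.d 0 (0 + 1) x = 0 := (he x).2 fun g hg => by
      obtain ⟨k, hk⟩ := hy g hg
      have hz : g ^ k • z = 0 := hSπ ((map_smul (S.homologyπ 0).hom _ z).trans (hk.trans (map_zero _).symm))
      refine ⟨k, (map_smul e.hom.hom (g ^ k) x).symm.trans ?_⟩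
      have : g ^ k • x = 0 := hσ.1 (((map_smul (σ.f 0).hom (g ^ k) x).trans
        ((congrArg (g ^ k • ·) hx).trans ((map_smul (S.iCycles 0).hom (g ^ k) z).symm.trans
          ((congrArg (S.iCycles 0) hz).trans (map_zero _))))).trans (map_zero (σ.f 0).hom).symm)
      exact (congrArg e.hom this).trans (map_zero _)
    obtain ⟨w, hw⟩ := exists_cycle_of_d_eq_zero C 0 x hd
    refine ⟨C.homologyπ 0 w, (hnat w).trans (congrArg _ ?_)⟩
    exact (ModuleCat.mono_iff_injective (S.iCycles 0)).1 inferInstance ((hi w).trans ((congrArg (σ.f 0) hw).trans hx))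

/-! ### Fibres in degree zero -/

lemma fibMap_fst {X Y : Sys A} (a : X ⟶ Y) :
    fibMap a ≫ mappingCocone.fst (dif Y) = mappingCocone.fst (dif X) ≫ prodMap a := by
  refine HomologicalComplex.hom_ext _ _ fun p => ModuleCat.hom_ext (LinearMap.ext fun x => ?_)
  change (mappingCone (dif X)).X (p + -1) at x
  show (mappingCocone.fst (dif Y)).f p ((mappingCone.map (dif X) (dif Y) (prodMap a) (prodMap a)
    (prodMap_dif a)).f (p + -1) x) = (prodMap a).f p ((mappingCocone.fst (dif X)).f p x)
  rw [mappingCocone_fst_f, mappingCocone_fst_f]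
  exact ConcreteCategory.congr_hom
    (H1CechLC.map_f_fst (φ₁ := dif X) (φ₂ := dif Y) (prodMap a) (prodMap a) (prodMap_dif a) (p + -1) p (by omega)) x

/-- The components of `H⁰` of a fibre. -/
noncomputable abbrev comp0 (Y : Sys A) (n : ℕ) : fib Y ⟶ Y.obj (op n) :=
  mappingCocone.fst (dif Y) ≫ Pi.π (terms Y) n

theorem homology_fib_zero (Y : Sys A) (h : ∀ n p, p < 0 → IsZero ((Y.obj (op n)).X p)) :
    (∀ z z', (∀ n, HomologicalComplex.homologyMap (comp0 Y n) 0 z =
      HomologicalComplex.homologyMap (comp0 Y n) 0 z') → z = z') ∧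
    ∀ c : ∀ n, (Y.obj (op n)).homology 0,
      (∀ n, HomologicalComplex.homologyMap (tr Y (Nat.le_succ n)) 0 (c (n + 1)) = c n) →
        ∃ z, ∀ n, HomologicalComplex.homologyMap (comp0 Y n) 0 z = c n := by
  let T := (DRingCechCompl.coconeSeq (dif Y))
  have hS : T.ShortExact := HomologicalComplex.shortExact_of_degreewise_shortExact _
    fun p => (DRingCechCompl.coconeSplitting (dif Y) p).shortExact
  have h1 : IsZero ((T.X₁).homology 0) := by
    refine HomologicalComplex.ExactAt.isZero_homology
      ((HomologicalComplex.exactAt_iff _ _).2 (ShortComplex.exact_of_isZero_X₂ _ ?_))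
    refine ModuleCat.isZero_iff_subsingleton.2 ⟨fun x y => ?_⟩
    change (∏ᶜ terms Y).X (0 + -1) at x y
    show x = y
    exact prod_ext _ _ fun n => (ModuleCat.subsingleton_of_isZero (h n (0 + -1) (by omega))).elim _ _
  let H := HomologicalComplex.homologyMap (mappingCocone.fst (dif Y)) 0
  have hinj : Function.Injective H := by
    refine (injective_iff_map_eq_zero H.hom).2 fun z hz => ?_
    obtain ⟨x, rfl⟩ := (ShortComplex.moduleCat_exact_iff _).1 (hS.homology_exact₂ 0) z hz
    rw [show x = 0 from (ModuleCat.subsingleton_of_isZero h1).elim _ _, map_zero]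
  have hcomp : ∀ n z, HomologicalComplex.homologyMap (comp0 Y n) 0 z =
      HomologicalComplex.homologyMap (Pi.π (terms Y) n) 0 (H z) := fun n z =>
    ConcreteCategory.congr_hom (HomologicalComplex.homologyMap_comp _ _ 0) z
  refine ⟨fun z z' hz => hinj (homology_prod_ext _ 0 fun n => by rw [← hcomp, ← hcomp, hz n]), fun c hc => ?_⟩
  obtain ⟨y, hy⟩ := exists_homology_prod (terms Y) 0 c
  have hd : HomologicalComplex.homologyMap (dif Y) 0 y = 0 := homology_prod_ext _ 0 fun n => by
    rw [homologyMap_dif, hy, hy, hc, sub_self, map_zero]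
  let F := DerivedCategory.homologyFunctor (ModuleCat.{u} A) 0
  let fac := DerivedCategory.homologyFunctorFactors (ModuleCat.{u} A) 0
  have hex := F.map_distinguished_exact _ (DerivedCategory.mappingCocone_triangle_distinguished (dif Y))
  rw [ShortComplex.moduleCat_exact_iff] at hex
  have hn : F.map (DerivedCategory.Q.map (dif Y)) ((fac.app _).inv y) =
      (fac.app _).inv (HomologicalComplex.homologyMap (dif Y) 0 y) :=
    ConcreteCategory.congr_hom (fac.inv.naturality (dif Y)).symm y
  obtain ⟨z, hz⟩ := hex ((fac.app _).inv y) (hn.trans ((congrArg _ hd).trans (map_zero _)))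
  refine ⟨(fac.app (fib Y)).hom z, fun n => (hcomp n _).trans ?_⟩
  have hn' : H ((fac.app (fib Y)).hom z) =
      (fac.app _).hom (F.map (DerivedCategory.Q.map (mappingCocone.fst (dif Y))) z) :=
    ConcreteCategory.congr_hom (fac.hom.naturality (mappingCocone.fst (dif Y))).symm z
  have hH : H ((fac.app (fib Y)).hom z) = y :=
    hn'.trans ((congrArg (fac.app (∏ᶜ terms Y)).hom hz).trans (Iso.inv_hom_id_apply _ _))
  rw [hH]
  exact hy n

end Groth.Agent.RGammaD
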