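import Groth.Agent.RGammaD.ProZero
import Groth.Agent.RGammaD.Complete
import Groth.Agent.DCEq.Cone
import Groth.Agent.H9Misc.DRingAdic
import Groth.Agent.H9Misc.DRingCechCompl

/-! Iterated cones of scalars: they detect objects without maps to derived complete objects, and
commute with localization, products and degreewise split sequences. -/

set_option autoImplicit false
set_option linter.style.haveILetI false
set_option backward.isDefEq.respectTransparency false

universe u

open CategoryTheory CategoryTheory.Limits CategoryTheory.Pretriangulated CochainComplex Opposite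

attribute [local instance] HasDerivedCategory.standard

namespace Groth.Agent.RGammaD

open Groth.Agent.H9Misc

variable {A : Type u} [CommRing A]

/-- Iterated cones, the head of the list applied first. -/
noncomputable def konR : List A → DRing.Cx A ⥤ DRing.Cx A
  | [] => 𝟭 _
  | f :: r => KonLib.F f ⋙ konR r

instance konR_additive : ∀ fs : List A, (konR fs).Additive
  | [] => inferInstanceAs (𝟭 (DRing.Cx A)).Additive
  | f :: r => by
    haveI := konR_additive r
    exact inferInstanceAs (KonLib.F f ⋙ konR r).Additive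

lemma acyclic_konR : ∀ (fs : List A) (X : DRing.Cx A), (∀ n, IsZero (X.homology n)) →
    ∀ n, IsZero (((konR fs).obj X).homology n)
  | [], _, h => h
  | _ :: r, _, h => acyclic_konR r _ (KonLib.acyclic_F h)

lemma split_konR {S : ShortComplex (DRing.Cx A)} :
    ∀ (fs : List A), (∀ n, (S.map (HomologicalComplex.eval _ (ComplexShape.up ℤ) n)).Splitting) →
      Nonempty (∀ n, ((S.map (konR fs)).map (HomologicalComplex.eval _ (ComplexShape.up ℤ) n)).Splitting)
  | [], σ => ⟨σ⟩
  | f :: r, σ => split_konR (S := S.map (KonLib.F f)) r fun n => KonLib.splitF f σ n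

lemma shortExact_konR {S : ShortComplex (DRing.Cx A)} (fs : List A)
    (σ : ∀ n, (S.map (HomologicalComplex.eval _ (ComplexShape.up ℤ) n)).Splitting) :
    (S.map (konR fs)).ShortExact := by
  obtain ⟨τ⟩ := split_konR fs σ
  exact HomologicalComplex.shortExact_of_degreewise_shortExact _ fun n => (τ n).shortExact

lemma exists_homotopy_konR {t : A} : ∀ (fs : List A) (X : DRing.Cx A),
    (t ∈ fs ∨ Nonempty (Homotopy (t • 𝟙 X) 0)) → Nonempty (Homotopy (t • 𝟙 ((konR fs).obj X)) 0)
  | [], X, h => h.resolve_left List.not_mem_nil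
  | f :: r, X, h => exists_homotopy_konR r _ (by
      rcases h with h | h
      · rcases List.mem_cons.1 h with rfl | h
        · exact Or.inr (DCEq.homotopy_cone_self _)
        · exact Or.inl h
      · exact Or.inr (DCEq.homotopy_cone_of_homotopy _ _ h))

/-- `konR fs X` acyclic means `X` has no maps to objects complete along `fs`. -/
theorem hom_eq_zero_of_acyclic {I : Ideal A} {Z : Dual.D A} (hZ : DRing.IsDerivedComplete I Z) :
    ∀ (fs : List A), (∀ f ∈ fs, f ∈ I) → ∀ (X : DRing.Cx A),
      (∀ n, IsZero (((konR fs).obj X).homology n)) →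
        ∀ (k : ℤ), Subsingleton (DerivedCategory.Q.obj X ⟶ Z⟦k⟧)
  | [], _, X, h, k => ⟨fun a b => (isZero_Q X h).eq_of_src a b⟩
  | f :: r, hfs, X, h, k => by
    have ih := hom_eq_zero_of_acyclic hZ r (fun g hg => hfs g (List.mem_cons_of_mem _ hg))
      ((KonLib.F f).obj X) h
    have hT := DerivedCategory.mappingCone_triangle_distinguished (f • 𝟙 X)
    have hfI := hfs f List.mem_cons_self
    have hsurj : ∀ x : DerivedCategory.Q.obj X ⟶ Z⟦k⟧, ∃ y, f • y = x := fun x => by
      have hr := inv_rot_of_distTriang _ hT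
      have hzero : ∀ w : (DerivedCategory.Q.obj ((KonLib.F f).obj X))⟦(-1 : ℤ)⟧ ⟶ Z⟦k⟧, w = 0 := fun w => by
        apply (CategoryTheory.shiftFunctor (Dual.D A) (1 : ℤ)).map_injective
        rw [Functor.map_zero, ← cancel_epi ((shiftFunctorCompIsoId (Dual.D A) (-1) 1 (by omega)).app
            (DerivedCategory.Q.obj ((KonLib.F f).obj X))).inv, comp_zero,
          ← cancel_mono ((CategoryTheory.shiftFunctorAdd' (Dual.D A) k 1 (k + 1) rfl).app Z).inv, zero_comp]
        exact (ih (k + 1)).elim _ _
      obtain ⟨y, hy⟩ := Triangle.yoneda_exact₂ _ hr x (hzero _)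
      refine ⟨y, Eq.trans ?_ hy.symm⟩
      have : DerivedCategory.Q.map (f • 𝟙 X) = f • 𝟙 (DerivedCategory.Q.obj X) := by
        rw [Functor.map_smul, CategoryTheory.Functor.map_id]
      show f • y = DerivedCategory.Q.map (f • 𝟙 X) ≫ y
      rw [this, Linear.smul_comp, Category.id_comp]
    choose g hg using hsurj
    have htb := TelLocal.tb_sc_of_separating f (Z⟦k⟧) _ (DRingCompl.isSeparating_self (A := A))
      (fun P hP => by
        rw [ObjectProperty.singleton_iff] at hP
        subst hP
        exact (DRingCompl.cg_iff_tbOn f _).1 (DRingAdic.isDerivedComplete_shift hZ k f hfI)) (DerivedCategory.Q.obj X)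
    exact subsingleton_of_forall_eq 0 fun x => by
      have hx := htb.eq_zero (fun k => g^[k] x) (fun k => by
        rw [Function.iterate_succ_apply']
        exact (hg _).symm) 0
      simpa using hx

/-! ### Products -/

/-- The comparison map of `konR fs` with countable products. -/
noncomputable abbrev cmp (fs : List A) (Y : ℕ → DRing.Cx A) :
    (konR fs).obj (∏ᶜ Y) ⟶ ∏ᶜ fun n => (konR fs).obj (Y n) := piComparison (konR fs) Y

lemma isIso_cmp_F (f : A) (Y : ℕ → DRing.Cx A) : IsIso (piComparison (KonLib.F f) Y) := by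
  haveI : ∀ p, IsIso ((piComparison (KonLib.F f) Y).f p) := fun p => by
    refine (ConcreteCategory.isIso_iff_bijective _).2 ⟨fun x y hxy => ?_, fun z => ?_⟩
    · have hp : ∀ n, ((KonLib.F f).map (Pi.π Y n)).f p x = ((KonLib.F f).map (Pi.π Y n)).f p y := fun n => by
        rw [← piComparison_comp_π (KonLib.F f) Y n, HomologicalComplex.comp_f]
        exact congrArg ((Pi.π (fun n => (KonLib.F f).obj (Y n)) n).f p) hxy
      refine H1CechLC.hom_ext_cone _ p (prod_ext Y (p + 1) fun n => ?_) (prod_ext Y p fun n => ?_)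
      · have e := ConcreteCategory.congr_hom (H1CechLC.map_f_fst (φ₁ := f • 𝟙 (∏ᶜ Y)) (φ₂ := f • 𝟙 (Y n))
          (Pi.π Y n) (Pi.π Y n) (by simp) p (p + 1) rfl)
        exact ((e x).symm.trans (congrArg ((mappingCone.fst (f • 𝟙 (Y n))).1.v p (p + 1) rfl) (hp n))).trans (e y)
      · have e := ConcreteCategory.congr_hom (H1CechLC.map_f_snd (φ₁ := f • 𝟙 (∏ᶜ Y)) (φ₂ := f • 𝟙 (Y n))
          (Pi.π Y n) (Pi.π Y n) (by simp) p)
        exact ((e x).symm.trans (congrArg ((mappingCone.snd (f • 𝟙 (Y n))).v p p (add_zero p)) (hp n))).trans (e y)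
    · let z' : ∀ n, (mappingCone (f • 𝟙 (Y n))).X p := fun n => (Pi.π (fun n => (KonLib.F f).obj (Y n)) n).f p z
      obtain ⟨k, hk⟩ := exists_prod_elt Y (p + 1) fun n => (mappingCone.fst (f • 𝟙 (Y n))).1.v p (p + 1) rfl (z' n)
      obtain ⟨l, hl⟩ := exists_prod_elt Y p fun n => (mappingCone.snd (f • 𝟙 (Y n))).v p p (add_zero p) (z' n)
      obtain ⟨x, hx1, hx2⟩ := H1CechLC.exists_cone_elt (f • 𝟙 (∏ᶜ Y)) p k l
      refine ⟨x, prod_ext (fun n => (KonLib.F f).obj (Y n)) p fun n => ?_⟩
      refine (ConcreteCategory.congr_hom (HomologicalComplex.congr_hom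
        (piComparison_comp_π (KonLib.F f) Y n) p) x).trans ?_
      refine H1CechLC.hom_ext_cone _ p ?_ ?_
      · exact (ConcreteCategory.congr_hom (H1CechLC.map_f_fst (φ₁ := f • 𝟙 (∏ᶜ Y)) (φ₂ := f • 𝟙 (Y n))
          (Pi.π Y n) (Pi.π Y n) (by simp) p (p + 1) rfl) x).trans ((congrArg ((Pi.π Y n).f (p + 1)) hx1).trans (hk n))
      · exact (ConcreteCategory.congr_hom (H1CechLC.map_f_snd (φ₁ := f • 𝟙 (∏ᶜ Y)) (φ₂ := f • 𝟙 (Y n))
          (Pi.π Y n) (Pi.π Y n) (by simp) p) x).trans ((congrArg ((Pi.π Y n).f p) hx2).trans (hl n))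
  exact HomologicalComplex.Hom.isIso_of_components _

lemma isIso_cmp : ∀ (fs : List A) (Y : ℕ → DRing.Cx A), IsIso (cmp fs Y)
  | [], Y => by
    have : cmp ([] : List A) Y = 𝟙 _ := Limits.Pi.hom_ext _ _ fun n => by
      rw [cmp, piComparison_comp_π, Category.id_comp]
      rfl
    rw [this]
    infer_instance
  | f :: r, Y => by
    haveI := isIso_cmp r fun n => (KonLib.F f).obj (Y n)
    haveI := isIso_cmp_F f Y
    have : cmp (f :: r) Y = (konR r).map (piComparison (KonLib.F f) Y) ≫ cmp r fun n => (KonLib.F f).obj (Y n) :=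
      Limits.Pi.hom_ext _ _ fun n => by
        refine (piComparison_comp_π _ _ n).trans ?_
        refine Eq.trans ?_ (((Category.assoc _ _ _).trans (congrArg ((konR r).map (piComparison (KonLib.F f) Y) ≫ ·)
          (piComparison_comp_π (konR r) (fun n => (KonLib.F f).obj (Y n)) n))).symm)
        exact ((congrArg (konR r).map (piComparison_comp_π (KonLib.F f) Y n)).symm.trans
          ((konR r).map_comp _ _))
    rw [this]
    infer_instance

lemma cmp_dif (fs : List A) (Y : Sys A) :
    (konR fs).map (dif Y) ≫ cmp fs (terms Y) = cmp fs (terms Y) ≫ dif (Y ⋙ konR fs) := by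
  refine Limits.Pi.hom_ext _ _ fun n => ?_
  refine ((Category.assoc _ _ _).trans (congrArg (_ ≫ ·) (piComparison_comp_π _ _ n))).trans ?_
  refine Eq.trans ?_ ((congrArg (cmp fs (terms Y) ≫ ·) (dif_π (Y ⋙ konR fs) n)).symm.trans (Category.assoc _ _ _).symm)
  rw [← Functor.map_comp, dif_π, Functor.map_sub, Functor.map_comp, Preadditive.comp_sub]
  refine congrArg₂ (· - ·) (piComparison_comp_π _ _ n).symm ?_
  exact ((congrArg (· ≫ _) (piComparison_comp_π (konR fs) (terms Y) (n + 1)).symm).trans (Category.assoc _ _ _))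

/-- The fibre of identity minus shift of a system with pro-zero cones is killed by the cones. -/
theorem acyclic_konR_fib {Y : Sys A} (fs : List A) (hY : PZ (Y ⋙ konR fs)) :
    ∀ n, IsZero (((konR fs).obj (mappingCocone (dif Y))).homology n) := by
  intro n
  haveI := quasiIso_dif hY
  haveI := isIso_cmp fs (terms Y)
  haveI hq : QuasiIso ((konR fs).map (dif Y)) := by
    have : (konR fs).map (dif Y) = cmp fs (terms Y) ≫ dif (Y ⋙ konR fs) ≫ inv (cmp fs (terms Y)) := by
      rw [← reassoc_of% cmp_dif, IsIso.hom_inv_id, Category.comp_id]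
    rw [this]
    infer_instance
  let P := ∏ᶜ terms Y
  let a : mappingCocone (dif Y) ⟶ mappingCocone (𝟙 P) :=
    (mappingCone.map (dif Y) (𝟙 P) (dif Y) (𝟙 P) rfl)⟦(-1 : ℤ)⟧'
  let S₁ := (DRingCechCompl.coconeSeq (dif Y)).map (konR fs)
  let S₂ := (DRingCechCompl.coconeSeq (𝟙 P)).map (konR fs)
  have h₁ : S₁.ShortExact := shortExact_konR fs (DRingCechCompl.coconeSplitting (dif Y))
  have h₂ : S₂.ShortExact := shortExact_konR fs (DRingCechCompl.coconeSplitting (𝟙 P))
  let φ : S₁ ⟶ S₂ :=
    { τ₁ := 𝟙 _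
      τ₂ := (konR fs).map a
      τ₃ := (konR fs).map (dif Y)
      comm₁₂ := by
        refine (Category.id_comp _).trans ?_
        refine Eq.trans ?_ ((konR fs).map_comp _ _)
        refine congrArg (konR fs).map ?_
        refine Eq.trans ?_ ((CategoryTheory.shiftFunctor (DRing.Cx A) (-1 : ℤ)).map_comp _ _)
        refine congrArg (CategoryTheory.shiftFunctor (DRing.Cx A) (-1 : ℤ)).map ?_
        ext p : 1
        simp [mappingCone.map]
      comm₂₃ := by
        refine ((konR fs).map_comp _ _).symm.trans (Eq.trans ?_ ((konR fs).map_comp _ _))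
        refine congrArg (konR fs).map ?_
        refine HomologicalComplex.hom_ext _ _ fun p => ?_
        have h := H1CechLC.map_f_fst (φ₁ := dif Y) (φ₂ := 𝟙 P) (dif Y) (𝟙 P) rfl (p + -1) p (by omega)
        simp [a, DRingCechCompl.coconeSeq, mappingCocone.fst]
        rw [HomComplex.Cochain.leftShift_v _ (-1) 0 _ p p _ (p + -1) (by omega),
          HomComplex.Cochain.leftShift_v _ (-1) 0 _ p p _ (p + -1) (by omega)]
        simp
        exact h }
  haveI : IsIso (DerivedCategory.Q.map φ.τ₁) := inferInstanceAs (IsIso (DerivedCategory.Q.map (𝟙 _)))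
  haveI : IsIso (DerivedCategory.Q.map φ.τ₃) := inferInstanceAs (IsIso (DerivedCategory.Q.map ((konR fs).map (dif Y))))
  let ψ : DerivedCategory.triangleOfSES h₁ ⟶ DerivedCategory.triangleOfSES h₂ :=
    DerivedCategory.triangleOfSES.map h₁ h₂ φ
  haveI : IsIso (DerivedCategory.Q.map φ.τ₂) :=
    isIso₂_of_isIso₁₃ ψ (DerivedCategory.triangleOfSES_distinguished h₁) (DerivedCategory.triangleOfSES_distinguished h₂)
      (inferInstanceAs (IsIso (DerivedCategory.Q.map φ.τ₁))) (inferInstanceAs (IsIso (DerivedCategory.Q.map φ.τ₃)))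
  have hid : ∀ m, IsZero ((mappingCocone (𝟙 P)).homology m) := fun m => by
    have hz : IsZero (DerivedCategory.Q.obj (mappingCocone (𝟙 P))) :=
      (Triangle.isZero₁_iff_isIso₂ _ (DerivedCategory.mappingCocone_triangle_distinguished (𝟙 P))).2
        (inferInstanceAs (IsIso (DerivedCategory.Q.map (𝟙 P))))
    exact ((DerivedCategory.homologyFunctor (ModuleCat.{u} A) m).map_isZero hz).of_iso
      ((DerivedCategory.homologyFunctorFactors (ModuleCat.{u} A) m).app _).symm
  have hz2 : IsZero (DerivedCategory.Q.obj ((konR fs).obj (mappingCocone (dif Y)))) :=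
    (isZero_Q _ (acyclic_konR fs _ hid)).of_iso (asIso (DerivedCategory.Q.map φ.τ₂))
  exact ((DerivedCategory.homologyFunctor (ModuleCat.{u} A) n).map_isZero hz2).of_iso
    ((DerivedCategory.homologyFunctorFactors (ModuleCat.{u} A) n).app _).symm

end Groth.Agent.RGammaD
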