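import Groth.Agent.RGammaD.Basic
import Groth.Agent.H9Misc.KonLib
import Groth.Agent.H1CechLC.Functor
import Mathlib.CategoryTheory.Functor.OfSequence

/-! Inverse systems of complexes with pro-zero homology; countable products of complexes of modules. -/

set_option autoImplicit false
set_option linter.style.haveILetI false

universe u

open CategoryTheory CategoryTheory.Limits Opposite

attribute [local instance] HasDerivedCategory.standard

namespace Groth.Agent.RGammaD

open Groth.Agent.H9Misc Groth.Agent.H9Misc.ExtCechTors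

variable {A : Type u} [CommRing A]

/-- Inverse systems of complexes. -/
abbrev Sys (A : Type u) [CommRing A] := ℕᵒᵖ ⥤ DRing.Cx A

/-- The transition map from level `m` to level `n`. -/
abbrev tr (Y : Sys A) {n m : ℕ} (h : n ≤ m) : Y.obj (op m) ⟶ Y.obj (op n) := Y.map (homOfLE h).op

lemma tr_comp (Y : Sys A) {n m l : ℕ} (h : n ≤ m) (h' : m ≤ l) : tr Y h' ≫ tr Y h = tr Y (h.trans h') := by
  rw [tr, tr, ← Y.map_comp]
  rfl

/-- Pro-zero homology. -/
def PZ (Y : Sys A) : Prop :=
  ∀ (n : ℕ) (q : ℤ), ∃ (m : ℕ) (h : n ≤ m), HomologicalComplex.homologyMap (tr Y h) q = 0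

lemma PZ.of_iso {Y Y' : Sys A} (hY : PZ Y) (e : Y ≅ Y') : PZ Y' := fun n q => by
  obtain ⟨m, h, hm⟩ := hY n q
  refine ⟨m, h, ?_⟩
  have : tr Y' h = e.inv.app (op m) ≫ tr Y h ≫ e.hom.app (op n) := by
    rw [show tr Y h ≫ e.hom.app (op n) = e.hom.app (op m) ≫ tr Y' h from e.hom.naturality _,
      Iso.inv_hom_id_app_assoc]
  rw [this, HomologicalComplex.homologyMap_comp, HomologicalComplex.homologyMap_comp, hm, zero_comp, comp_zero]

/-- Pro-zero homology is closed under extensions. -/
lemma PZ.ext {X Y Z : Sys A} (a : X ⟶ Y) (b : Y ⟶ Z) (w : ∀ n, a.app (op n) ≫ b.app (op n) = 0)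
    (hS : ∀ n, (ShortComplex.mk _ _ (w n)).ShortExact) (hX : PZ X) (hZ : PZ Z) : PZ Y := by
  intro n q
  obtain ⟨m, h, hm⟩ := hX n q
  obtain ⟨l, h', hl⟩ := hZ m q
  refine ⟨l, h.trans h', ModuleCat.hom_ext (LinearMap.ext fun x => ?_)⟩
  let H := HomologicalComplex.homologyFunctor (ModuleCat.{u} A) (ComplexShape.up ℤ) q
  let y := (H.map (tr Y h')).hom x
  have hy : (H.map (b.app (op m))).hom y = 0 := by
    show (H.map (tr Y h') ≫ H.map (b.app (op m))).hom x = 0
    rw [← H.map_comp, b.naturality, H.map_comp]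
    exact (congrArg (fun t => (H.map (b.app (op l)) ≫ t).hom x) hl).trans rfl
  have hex := (hS m).homology_exact₂ q
  rw [ShortComplex.moduleCat_exact_iff] at hex
  obtain ⟨z, hz⟩ := hex y hy
  have hc : (H.map (tr Y (h.trans h'))).hom x = (H.map (tr Y h)).hom y := by
    rw [← tr_comp Y h h', H.map_comp]
    rfl
  refine hc.trans ?_
  rw [← hz]
  show (H.map (a.app (op m)) ≫ H.map (tr Y h)).hom z = 0
  rw [← H.map_comp, ← a.naturality, H.map_comp]
  exact (congrArg (fun t => (t ≫ H.map (a.app (op n))).hom z) hm).trans (map_zero (H.map (a.app (op n))).hom)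

/-- Pro-zero homology is preserved by localization. -/
lemma PZ.loc {Y : Sys A} (hY : PZ Y) (f : A) : PZ (Y ⋙ DerCA.locCx (Submonoid.powers f)) := fun n q => by
  obtain ⟨m, h, hm⟩ := hY n q
  refine ⟨m, h, ModuleCat.hom_ext (LinearMap.ext fun b => ?_)⟩
  let S := Submonoid.powers f
  obtain ⟨i, a, ha⟩ := (unit_kernel_cokernel f (Y.obj (op m)) q).2 b
  refine (bij_pow (bij_loc f (Y.obj (op n)) q) i).1 (Eq.trans ?_ (smul_zero _).symm)
  have hn := H1CechLC.locCxUnit_naturality S (tr Y h)
  have h2 : HomologicalComplex.homologyMap (DerCA.locCxUnit S (Y.obj (op m))) q ≫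
      HomologicalComplex.homologyMap ((DerCA.locCx S).map (tr Y h)) q = 0 := by
    rw [← HomologicalComplex.homologyMap_comp, hn, HomologicalComplex.homologyMap_comp, hm, zero_comp]
  refine Eq.trans ?_ (ConcreteCategory.congr_hom h2 a)
  show f ^ i • _ = (HomologicalComplex.homologyMap ((DerCA.locCx S).map (tr Y h)) q).hom
    ((HomologicalComplex.homologyMap (DerCA.locCxUnit S (Y.obj (op m))) q).hom a)
  exact ((congrArg _ ha).trans (map_smul _ _ _)).symm

/-! ### Countable products -/

section Prod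

variable (Y : ℕ → DRing.Cx A) (q : ℤ)

lemma exists_prod_elt (x : ∀ n, (Y n).X q) : ∃ z : (∏ᶜ Y).X q, ∀ n, (Pi.π Y n).f q z = x n := by
  let f := Pi.lift (f := fun j => (HomologicalComplex.eval (ModuleCat.{u} A) (ComplexShape.up ℤ) q).obj (Y j)) fun n => ModuleCat.ofHom (LinearMap.toSpanSingleton A _ (x n))
  let e := PreservesProduct.iso (HomologicalComplex.eval (ModuleCat.{u} A) (ComplexShape.up ℤ) q) Y
  refine ⟨(f ≫ e.inv).hom (1 : A), fun n => ?_⟩
  have : (f ≫ e.inv) ≫ (Pi.π Y n).f q = ModuleCat.ofHom (LinearMap.toSpanSingleton A _ (x n)) := by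
    have he : e.hom ≫ Pi.π (fun j => (HomologicalComplex.eval (ModuleCat.{u} A) (ComplexShape.up ℤ) q).obj (Y j)) n = (Pi.π Y n).f q := by
      rw [PreservesProduct.iso_hom]; exact piComparison_comp_π _ _ _
    refine (congrArg ((f ≫ e.inv) ≫ ·) he.symm).trans ?_
    refine ((Category.assoc _ _ _).trans (congrArg (f ≫ ·) (e.inv_hom_id_assoc _))).trans ?_
    exact Pi.lift_π _ n
  exact (ConcreteCategory.congr_hom this (1 : A)).trans (one_smul A _)

lemma prod_ext {x y : (∏ᶜ Y).X q} (h : ∀ n, (Pi.π Y n).f q x = (Pi.π Y n).f q y) : x = y := by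
  let e := PreservesProduct.iso (HomologicalComplex.eval (ModuleCat.{u} A) (ComplexShape.up ℤ) q) Y
  have : ModuleCat.ofHom (LinearMap.toSpanSingleton A _ x) = ModuleCat.ofHom (LinearMap.toSpanSingleton A _ y) := by
    refine (cancel_mono e.hom).1 (Limits.Pi.hom_ext _ _ fun n => ?_)
    have he : e.hom ≫ Pi.π (fun j => (HomologicalComplex.eval (ModuleCat.{u} A) (ComplexShape.up ℤ) q).obj (Y j)) n = (Pi.π Y n).f q := by
      rw [PreservesProduct.iso_hom]; exact piComparison_comp_π _ _ _
    refine (Category.assoc _ _ _).trans ((congrArg (_ ≫ ·) he).trans (Eq.trans ?_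
      ((congrArg (_ ≫ ·) he).symm.trans (Category.assoc _ _ _).symm)))
    exact ModuleCat.hom_ext (LinearMap.ext fun (a : A) =>
      (map_smul ((Pi.π Y n).f q).hom a x).trans ((congrArg (a • ·) (h n)).trans (map_smul ((Pi.π Y n).f q).hom a y).symm))
  have h1 := congrArg (fun t => t.hom (1 : A)) this
  exact (one_smul A x).symm.trans (h1.trans (one_smul A y))

lemma exists_homology_prod (c : ∀ n, (Y n).homology q) :
    ∃ y : (∏ᶜ Y).homology q, ∀ n, HomologicalComplex.homologyMap (Pi.π Y n) q y = c n := by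
  choose z hz using fun n => exists_cycle_rep (Y n) q (c n)
  obtain ⟨x, hx⟩ := exists_prod_elt Y q fun n => (Y n).iCycles q (z n)
  have hd : (∏ᶜ Y).d q (q + 1) x = 0 := prod_ext Y (q + 1) fun n => by
    have hc := ConcreteCategory.congr_hom ((Pi.π Y n).comm q (q + 1)) x
    simp only [ConcreteCategory.comp_apply] at hc
    rw [map_zero, ← hc, hx n, ← ConcreteCategory.comp_apply, (Y n).iCycles_d]
    rfl
  obtain ⟨w, hw⟩ := exists_cycle_of_d_eq_zero (∏ᶜ Y) q x hd
  refine ⟨(∏ᶜ Y).homologyπ q w, fun n => ?_⟩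
  refine ((ConcreteCategory.congr_hom (HomologicalComplex.homologyπ_naturality (Pi.π Y n) q) w).trans ?_)
  rw [ConcreteCategory.comp_apply, ← hz n]
  refine congrArg ((Y n).homologyπ q) ((ModuleCat.mono_iff_injective ((Y n).iCycles q)).1 inferInstance ?_)
  exact ((ConcreteCategory.congr_hom (HomologicalComplex.cyclesMap_i (Pi.π Y n) q) w).trans
    (congrArg ((Pi.π Y n).f q) hw)).trans (hx n)

lemma homology_prod_ext {x y : (∏ᶜ Y).homology q}
    (h : ∀ n, HomologicalComplex.homologyMap (Pi.π Y n) q x = HomologicalComplex.homologyMap (Pi.π Y n) q y) :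
    x = y := by
  rw [← sub_eq_zero]
  obtain ⟨w, hw⟩ := exists_cycle_rep (∏ᶜ Y) q (x - y)
  rw [← hw]
  have h0 : ∀ n, (Y n).homologyπ q (HomologicalComplex.cyclesMap (Pi.π Y n) q w) = 0 := fun n => by
    refine (ConcreteCategory.congr_hom (HomologicalComplex.homologyπ_naturality (Pi.π Y n) q) w).symm.trans ?_
    rw [ConcreteCategory.comp_apply, hw, map_sub, h n, sub_self]
  choose v hv using fun n => exists_of_homologyπ_eq_zero (Y n) q _ (h0 n)
  obtain ⟨u', hu⟩ := exists_prod_elt Y (q - 1) v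
  refine homologyπ_eq_zero _ q w u' (prod_ext Y q fun n => ?_)
  have hc := ConcreteCategory.congr_hom ((Pi.π Y n).comm (q - 1) q) u'
  simp only [ConcreteCategory.comp_apply] at hc
  rw [← hc, hu n, hv n]
  exact ConcreteCategory.congr_hom (HomologicalComplex.cyclesMap_i (Pi.π Y n) q) w

end Prod

/-- The terms of a system. -/
abbrev terms (Y : Sys A) : ℕ → DRing.Cx A := fun n => Y.obj (op n)

/-- Identity minus shift. -/
noncomputable def dif (Y : Sys A) : ∏ᶜ terms Y ⟶ ∏ᶜ terms Y :=
  Pi.lift fun n => Pi.π (terms Y) n - Pi.π (terms Y) (n + 1) ≫ tr Y (Nat.le_succ n)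

lemma dif_π (Y : Sys A) (n : ℕ) :
    dif Y ≫ Pi.π (terms Y) n = Pi.π (terms Y) n - Pi.π (terms Y) (n + 1) ≫ tr Y (Nat.le_succ n) :=
  Pi.lift_π _ n

lemma homologyMap_dif (Y : Sys A) (q : ℤ) (n : ℕ) (x : (∏ᶜ terms Y).homology q) :
    HomologicalComplex.homologyMap (Pi.π (terms Y) n) q (HomologicalComplex.homologyMap (dif Y) q x) =
      HomologicalComplex.homologyMap (Pi.π (terms Y) n) q x -
        HomologicalComplex.homologyMap (tr Y (Nat.le_succ n)) q
          (HomologicalComplex.homologyMap (Pi.π (terms Y) (n + 1)) q x) := by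
  rw [← ConcreteCategory.comp_apply, ← HomologicalComplex.homologyMap_comp, dif_π,
    HomologicalComplex.homologyMap_sub, HomologicalComplex.homologyMap_comp]
  rfl

/-- Identity minus shift is bijective on pro-zero homology. -/
theorem quasiIso_dif {Y : Sys A} (hY : PZ Y) : QuasiIso (dif Y) := ⟨fun q => by
  rw [quasiIsoAt_iff_isIso_homologyMap, ConcreteCategory.isIso_iff_bijective]
  let H := HomologicalComplex.homologyFunctor (ModuleCat.{u} A) (ComplexShape.up ℤ) q
  let t : ∀ (n m : ℕ), n ≤ m → ((Y.obj (op m)).homology q →ₗ[A] (Y.obj (op n)).homology q) :=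
    fun n m h => (HomologicalComplex.homologyMap (tr Y h) q).hom
  have tt : ∀ (n m l : ℕ) (h : n ≤ m) (h' : m ≤ l) (z : (Y.obj (op l)).homology q),
      t n m h (t m l h' z) = t n l (h.trans h') z := fun n m l h h' z => by
    show ((HomologicalComplex.homologyMap (tr Y h') q) ≫ (HomologicalComplex.homologyMap (tr Y h) q)).hom z = _
    rw [← HomologicalComplex.homologyMap_comp, tr_comp]
  have t0 : ∀ (n : ℕ) (z : (Y.obj (op n)).homology q), t n n le_rfl z = z := fun n z => by
    show (HomologicalComplex.homologyMap (Y.map (homOfLE le_rfl).op) q).hom z = z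
    rw [show (homOfLE (le_refl n)).op = 𝟙 (op n) from rfl, Y.map_id, HomologicalComplex.homologyMap_id]
    rfl
  choose m hm hz using fun n => hY n q
  have hkill : ∀ (n l : ℕ) (h : m n ≤ l) (z : (Y.obj (op l)).homology q), t n l ((hm n).trans h) z = 0 :=
    fun n l h z => by
      rw [← tt n (m n) l (hm n) h z]
      show (HomologicalComplex.homologyMap (tr Y (hm n)) q).hom _ = 0
      rw [hz n]
      rfl
  refine ⟨(injective_iff_map_eq_zero _).2 fun x hx => ?_, fun y => ?_⟩
  · refine homology_prod_ext _ q fun n => ?_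
    let c : ∀ n, (Y.obj (op n)).homology q := fun n => HomologicalComplex.homologyMap (Pi.π (terms Y) n) q x
    have h1 : ∀ k, c k = t k (k + 1) (Nat.le_succ k) (c (k + 1)) := fun k =>
      sub_eq_zero.1 ((homologyMap_dif Y q k x).symm.trans (by rw [hx, map_zero]))
    have h2 : ∀ k, c n = t n (n + k) (Nat.le_add_right n k) (c (n + k)) := fun k => by
      induction k with
      | zero => exact (t0 n (c n)).symm
      | succ k ih =>
        rw [ih, h1 (n + k), tt]
        rfl
    rw [map_zero]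
    show c n = 0
    rw [h2 (m n)]
    exact hkill n (n + m n) (Nat.le_add_left _ _) _
  · let c : ∀ n, (Y.obj (op n)).homology q := fun n => HomologicalComplex.homologyMap (Pi.π (terms Y) n) q y
    let S : ∀ n, ℕ → (Y.obj (op n)).homology q := fun n l =>
      ∑ j ∈ Finset.Ico n l, if h : n ≤ j then t n j h (c j) else 0
    have hS : ∀ (n l l' : ℕ), m n ≤ l → l ≤ l' → S n l' = S n l := fun n l l' hl hl' => by
      show ∑ j ∈ Finset.Ico n l', _ = _
      rw [← Finset.sum_Ico_consecutive _ ((hm n).trans hl) hl', add_eq_left]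
      refine Finset.sum_eq_zero fun j hj => ?_
      rw [Finset.mem_Ico] at hj
      rw [dif_pos (by have := hm n; omega)]
      exact hkill n j (hl.trans hj.1) (c j)
    obtain ⟨x, hx⟩ := exists_homology_prod (terms Y) q fun n => S n (m n)
    refine ⟨x, homology_prod_ext _ q fun n => ?_⟩
    rw [homologyMap_dif, hx n, hx (n + 1)]
    show S n (m n) - t n (n + 1) (Nat.le_succ n) (S (n + 1) (m (n + 1))) = c n
    let L := max (max (m n) (m (n + 1))) (n + 1)
    rw [← hS n (m n) L le_rfl (le_max_of_le_left (le_max_left _ _)),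
      ← hS (n + 1) (m (n + 1)) L le_rfl (le_max_of_le_left (le_max_right _ _))]
    show (∑ j ∈ Finset.Ico n L, _) - t n (n + 1) (Nat.le_succ n) (∑ j ∈ Finset.Ico (n + 1) L, _) = c n
    rw [Finset.sum_eq_sum_Ico_succ_bot (by omega : n < L), map_sum, dif_pos le_rfl, t0, add_sub_assoc,
      ← Finset.sum_sub_distrib, Finset.sum_eq_zero, add_zero]
    intro j hj
    rw [Finset.mem_Ico] at hj
    rw [dif_pos (by omega), dif_pos hj.1, tt, sub_self]⟩

end Groth.Agent.RGammaD
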