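import Groth.Agent.RGammaD.Cech
import Groth.Agent.H9Misc.DRingCompl

/-! Fibres of identity minus shift: products in the derived category, short exact sequences of systems,
and completeness. -/

set_option autoImplicit false
set_option linter.style.haveILetI false
set_option backward.isDefEq.respectTransparency false

universe u

open CategoryTheory CategoryTheory.Limits CategoryTheory.Pretriangulated CochainComplex Opposite

attribute [local instance] HasDerivedCategory.standard

namespace Groth.Agent.RGammaD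

open Groth.Agent.H9Misc

variable {A : Type u} [CommRing A]

/-- Countable products of complexes of modules compute products in `D(A)`. -/
theorem isIso_prodQ (Y : ℕ → DRing.Cx A) [HasProduct fun n => DerivedCategory.Q.obj (Y n)] :
    IsIso (Pi.lift fun n => DerivedCategory.Q.map (Pi.π Y n) :
      DerivedCategory.Q.obj (∏ᶜ Y) ⟶ ∏ᶜ fun n => DerivedCategory.Q.obj (Y n)) := by
  rw [DerivedCategory.isIso_iff]
  intro q
  let H := DerivedCategory.homologyFunctor (ModuleCat.{u} A) q
  let fac := DerivedCategory.homologyFunctorFactors (ModuleCat.{u} A) q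
  let Z := fun n => DerivedCategory.Q.obj (Y n)
  let Φ : DerivedCategory.Q.obj (∏ᶜ Y) ⟶ ∏ᶜ Z := Pi.lift fun n => DerivedCategory.Q.map (Pi.π Y n)
  have hπ : ∀ n (x : H.obj (DerivedCategory.Q.obj (∏ᶜ Y))), H.map (Pi.π Z n) (H.map Φ x) =
      (fac.app (Y n)).inv (HomologicalComplex.homologyMap (Pi.π Y n) q ((fac.app (∏ᶜ Y)).hom x)) := by
    intro n x
    have e1 : H.map Φ ≫ H.map (Pi.π Z n) = H.map (DerivedCategory.Q.map (Pi.π Y n)) := by
      rw [← Functor.map_comp, Pi.lift_π]
    have e2 : H.map (DerivedCategory.Q.map (Pi.π Y n)) =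
        (fac.app (∏ᶜ Y)).hom ≫ HomologicalComplex.homologyMap (Pi.π Y n) q ≫ (fac.app (Y n)).inv := by
      rw [← Category.assoc, Iso.eq_comp_inv]
      exact fac.hom.naturality (Pi.π Y n)
    exact ConcreteCategory.congr_hom (e1.trans e2) x
  have hsep : ∀ z z' : H.obj (∏ᶜ Z), (∀ n, H.map (Pi.π Z n) z = H.map (Pi.π Z n) z') → z = z' := by
    intro z z' h
    obtain ⟨φ, hφ⟩ := (KFlatLib.bijective_psiC_of_projective (P := ModuleCat.of A A) q (∏ᶜ Z)).2
      (ModuleCat.ofHom (LinearMap.toSpanSingleton A _ z))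
    obtain ⟨φ', hφ'⟩ := (KFlatLib.bijective_psiC_of_projective (P := ModuleCat.of A A) q (∏ᶜ Z)).2
      (ModuleCat.ofHom (LinearMap.toSpanSingleton A _ z'))
    have : φ = φ' := Limits.Pi.hom_ext _ _ fun n =>
      (KFlatLib.bijective_psiC_of_projective (P := ModuleCat.of A A) q (Z n)).1 (by
        rw [KFlatLib.psiC_comp, KFlatLib.psiC_comp, hφ, hφ']
        refine ModuleCat.hom_ext (LinearMap.ext fun (a : A) => ?_)
        exact (map_smul (H.map (Pi.π Z n)).hom a z).trans
          ((congrArg (a • ·) (h n)).trans (map_smul (H.map (Pi.π Z n)).hom a z').symm))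
    have h' := congrArg (fun k => k.hom (1 : A)) (hφ.symm.trans ((congrArg _ this).trans hφ'))
    exact (one_smul A z).symm.trans (h'.trans (one_smul A z'))
  refine (ConcreteCategory.isIso_iff_bijective _).2 ⟨(injective_iff_map_eq_zero (H.map Φ).hom).2 fun x hx => ?_,
    fun z => ?_⟩
  · have : (fac.app (∏ᶜ Y)).hom x = 0 := homology_prod_ext Y q fun n => by
      have h := hπ n x
      rw [show H.map Φ x = 0 from hx, map_zero] at h
      have h' := congrArg (fac.app (Y n)).hom h.symm
      rw [Iso.inv_hom_id_apply, map_zero] at h'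
      rw [h', map_zero]
    have h' := congrArg (fac.app (∏ᶜ Y)).inv this
    rwa [Iso.hom_inv_id_apply, map_zero] at h'
  · obtain ⟨y, hy⟩ := exists_homology_prod Y q fun n => (fac.app (Y n)).hom (H.map (Pi.π Z n) z)
    refine ⟨(fac.app (∏ᶜ Y)).inv y, hsep _ _ fun n => (hπ n _).trans ?_⟩
    rw [Iso.inv_hom_id_apply, hy n, Iso.hom_inv_id_apply]

/-! ### Short exact sequences of systems -/

section SES

variable {X Y Z : Sys A} (a : X ⟶ Y) (b : Y ⟶ Z) (w : ∀ n, a.app (op n) ≫ b.app (op n) = 0)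
  (hS : ∀ n, (ShortComplex.mk _ _ (w n)).ShortExact)

/-- The map on products induced by a map of systems. -/
noncomputable def prodMap {X Y : Sys A} (a : X ⟶ Y) : ∏ᶜ terms X ⟶ ∏ᶜ terms Y :=
  Pi.lift fun n => Pi.π (terms X) n ≫ a.app (op n)

lemma prodMap_π {X Y : Sys A} (a : X ⟶ Y) (n : ℕ) :
    prodMap a ≫ Pi.π (terms Y) n = Pi.π (terms X) n ≫ a.app (op n) :=
  Pi.lift_π _ n

lemma prodMap_f_apply {X Y : Sys A} (a : X ⟶ Y) (n : ℕ) (p : ℤ) (x : (∏ᶜ terms X).X p) :
    (Pi.π (terms Y) n).f p ((prodMap a).f p x) = (a.app (op n)).f p ((Pi.π (terms X) n).f p x) :=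
  ConcreteCategory.congr_hom (HomologicalComplex.congr_hom (prodMap_π a n) p) x

lemma prodMap_dif {X Y : Sys A} (a : X ⟶ Y) : dif X ≫ prodMap a = prodMap a ≫ dif Y := by
  refine Limits.Pi.hom_ext _ _ fun n => ?_
  rw [Category.assoc, Category.assoc, prodMap_π, dif_π, reassoc_of% dif_π, Preadditive.comp_sub,
    Preadditive.sub_comp, prodMap_π, Category.assoc, reassoc_of% prodMap_π a (n + 1),
    show tr X (Nat.le_succ n) ≫ a.app (op n) = a.app (op (n + 1)) ≫ tr Y (Nat.le_succ n) from a.naturality _]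

include w in
lemma prodMap_zero : prodMap a ≫ prodMap b = 0 := by
  refine Limits.Pi.hom_ext _ _ fun n => ?_
  rw [Category.assoc, prodMap_π, reassoc_of% prodMap_π a n, w n, comp_zero, zero_comp]

include hS in
lemma shortExact_prod : (ShortComplex.mk _ _ (prodMap_zero a b w)).ShortExact := by
  refine HomologicalComplex.shortExact_of_degreewise_shortExact _ fun p => ?_
  have h := fun n => (hS n).map_of_exact (HomologicalComplex.eval (ModuleCat.{u} A) (ComplexShape.up ℤ) p)
  refine H1CechLC.mk_shortExact _ _ _ ?_ ?_ ?_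
  · intro x y hxy
    refine prod_ext _ p fun n => (ModuleCat.mono_iff_injective ((a.app (op n)).f p)).1 (h n).mono_f ?_
    rw [← prodMap_f_apply, ← prodMap_f_apply]
    exact congrArg _ hxy
  · intro z
    choose y hy using fun n => (ModuleCat.epi_iff_surjective ((b.app (op n)).f p)).1 (h n).epi_g
      ((Pi.π (terms Z) n).f p z)
    obtain ⟨x, hx⟩ := exists_prod_elt (terms Y) p y
    exact ⟨x, prod_ext _ p fun n => (prodMap_f_apply b n p x).trans ((congrArg _ (hx n)).trans (hy n))⟩
  · intro y hy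
    choose x hx using fun n => (ShortComplex.moduleCat_exact_iff _).1 (h n).exact ((Pi.π (terms Y) n).f p y)
      ((prodMap_f_apply b n p y).symm.trans
        ((congrArg ((Pi.π (terms Z) n).f p) hy).trans (map_zero _)))
    obtain ⟨x', hx'⟩ := exists_prod_elt (terms X) p x
    exact ⟨x', prod_ext _ p fun n => (prodMap_f_apply a n p x').trans ((congrArg _ (hx' n)).trans (hx n))⟩

/-- The fibre of identity minus shift. -/
noncomputable abbrev fib (Y : Sys A) : DRing.Cx A := mappingCocone (dif Y)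

/-- Functoriality of the fibre. -/
noncomputable def fibMap {X Y : Sys A} (a : X ⟶ Y) : fib X ⟶ fib Y :=
  (CategoryTheory.shiftFunctor (DRing.Cx A) (-1 : ℤ)).map
    (mappingCone.map (dif X) (dif Y) (prodMap a) (prodMap a) (prodMap_dif a))

include hS in
lemma exists_fib_ses : ∃ w' : fibMap a ≫ fibMap b = 0, (ShortComplex.mk _ _ w').ShortExact := by
  have h := (H1CechLC.cone_shortExact (prodMap a) (prodMap a) (prodMap b) (prodMap b) (prodMap_dif a)
    (prodMap_dif b) (prodMap_zero a b w) (prodMap_zero a b w) (shortExact_prod a b w hS)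
    (shortExact_prod a b w hS)).map_of_exact (CategoryTheory.shiftFunctor (DRing.Cx A) (-1 : ℤ))
  exact ⟨_, h⟩

include w hS in
/-- If the cones kill the fibre of the sub system, the fibres of the system and of the quotient system
are the same for complete objects. -/
theorem bijective_fibMap {I : Ideal A} (fs : List A) (hfs : ∀ f ∈ fs, f ∈ I) (hX : PZ (X ⋙ konR fs))
    {W : Dual.D A} (hW : DRing.IsDerivedComplete I W) :
    Function.Bijective (fun φ : DerivedCategory.Q.obj (fib Z) ⟶ W => DerivedCategory.Q.map (fibMap b) ≫ φ) := by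
  obtain ⟨w', h⟩ := exists_fib_ses a b w hS
  have hT := DerivedCategory.triangleOfSES_distinguished h
  have h0 := hom_eq_zero_of_acyclic hW fs hfs (fib X) (acyclic_konR_fib fs hX)
  refine ⟨(injective_iff_map_eq_zero (Preadditive.leftComp W (DerivedCategory.Q.map (fibMap b)))).2
    fun φ hφ => ?_, fun ψ => ?_⟩
  · obtain ⟨t, ht⟩ := Triangle.yoneda_exact₃ _ hT φ hφ
    have hs : Subsingleton ((DerivedCategory.Q.obj (fib X))⟦(1 : ℤ)⟧ ⟶ W) :=
      (DRingCompl.subsingleton_shift_iff _ _).1 h0 1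
    rw [ht, @Subsingleton.elim _ hs t 0, comp_zero]
  · have hs : Subsingleton (DerivedCategory.Q.obj (fib X) ⟶ W) := by
      refine ⟨fun x y => ?_⟩
      rw [← cancel_mono ((shiftFunctorZero (Dual.D A) ℤ).app W).inv]
      exact (h0 0).elim _ _
    obtain ⟨t, ht⟩ := Triangle.yoneda_exact₂ _ hT ψ (@Subsingleton.elim _ hs _ 0)
    exact ⟨t, ht.symm⟩

end SES

/-- A complex killed by a power of `f` is `f`-complete. -/
lemma cg_of_pow_smul_eq_zero {f : A} {K : DRing.Cx A} (n : ℕ) (h : f ^ n • 𝟙 K = 0) :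
    DRingCompl.Cg f (DerivedCategory.Q.obj K) := by
  intro m
  refine subsingleton_of_forall_eq 0 fun φ => ?_
  have hK : f ^ n • 𝟙 (DerivedCategory.Q.obj K) = 0 := by
    rw [← CategoryTheory.Functor.map_id, ← Functor.map_smul, h, Functor.map_zero]
  have hs : f ^ n • 𝟙 ((DerivedCategory.Q.obj K)⟦m⟧) = 0 := by
    rw [← CategoryTheory.Functor.map_id, ← Functor.map_smul, hK, Functor.map_zero]
  have hz : f ^ n • φ = 0 := by
    rw [← Category.comp_id φ, ← Linear.comp_smul, hs, comp_zero]
  have hu : IsIso (f • 𝟙 (Dual.inD A (Localization.Away f))) := DRingCompl.isIso_smul_inD_away f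
  have key : ∀ (k : ℕ) (ψ : Dual.inD A (Localization.Away f) ⟶ (DerivedCategory.Q.obj K)⟦m⟧),
      f ^ k • ψ = 0 → ψ = 0 := by
    intro k
    induction k with
    | zero => intro ψ hψ; simpa using hψ
    | succ k ih =>
      intro ψ hψ
      refine ih ψ ((cancel_epi (f • 𝟙 (Dual.inD A (Localization.Away f)))).1 ?_)
      rw [Linear.smul_comp, Category.id_comp, smul_smul, ← pow_succ', hψ, comp_zero]
  exact key n φ hz

/-- Products of complete objects are complete. -/
lemma cg_prodQ {f : A} (Y : ℕ → DRing.Cx A) (h : ∀ n, DRingCompl.Cg f (DerivedCategory.Q.obj (Y n))) :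
    DRingCompl.Cg f (DerivedCategory.Q.obj (∏ᶜ Y)) := by
  haveI := isIso_prodQ Y
  unfold DRingCompl.Cg
  rw [DRingCompl.subsingleton_shift_iff]
  intro m
  refine ⟨fun x y => (cancel_mono (Pi.lift fun n => DerivedCategory.Q.map (Pi.π Y n) :
    DerivedCategory.Q.obj (∏ᶜ Y) ⟶ ∏ᶜ fun n => DerivedCategory.Q.obj (Y n))).1 ?_⟩
  exact Limits.Pi.hom_ext _ _ fun n => ((DRingCompl.subsingleton_shift_iff _ _).1 (h n) m).elim _ _

lemma cg_shift {f : A} {K : Dual.D A} (h : DRingCompl.Cg f K) (a : ℤ) : DRingCompl.Cg f (K⟦a⟧) := fun k =>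
  ⟨fun x y => (cancel_mono ((CategoryTheory.shiftFunctorAdd' (Dual.D A) a k (a + k) rfl).app K).inv).1
    ((h _).elim _ _)⟩

/-- The fibre of a system of complexes killed by powers of `I` is derived complete. -/
theorem isDerivedComplete_fib {I : Ideal A} (Y : Sys A)
    (h : ∀ f ∈ I, ∀ n, ∃ k : ℕ, f ^ k • 𝟙 (Y.obj (op n)) = 0) :
    DRing.IsDerivedComplete I (DerivedCategory.Q.obj (fib Y)) := by
  intro f hf
  have hP : DRingCompl.Cg f (DerivedCategory.Q.obj (∏ᶜ terms Y)) := cg_prodQ _ fun n => by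
    obtain ⟨k, hk⟩ := h f hf n
    exact cg_of_pow_smul_eq_zero k hk
  intro m
  have hT' := DerivedCategory.mappingCocone_triangle_distinguished (dif Y)
  exact DRingCompl.subsingleton_third (inv_rot_of_distTriang _ (inv_rot_of_distTriang _ hT'))
    (cg_shift hP (-1)) (cg_shift hP (-1)) m

end Groth.Agent.RGammaD
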